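import Cfsg.Agent.Lib.UnitaryTwoGen.Core

/-!
# Chains of isotropic vectors with shift-invariant Gram matrix

* `Chain q m u` : `h(u_{i+1}, u_{j+1}) = h(u_i, u_j)` and every initial span is nondegenerate
* `Chain.extend`, `Chain.exists_shift`, `Chain.full` : extension, the shift element, generation
-/

set_option autoImplicit false
set_option linter.unusedSectionVars false

namespace Cfsg.Agent.UnitaryTwoGen

open scoped Matrix
open Cfsg.Agent.Unitary

variable {F : Type*} [Field F] [Fintype F] {q n : ℕ}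

/-- The span of the first `k` vectors. -/
abbrev spn (u : ℕ → (Fin n → F)) (k : ℕ) : Submodule F (Fin n → F) :=
  Submodule.span F (Set.range fun i : Fin k => u i.val)

theorem mem_spn (u : ℕ → (Fin n → F)) {i k : ℕ} (hi : i < k) : u i ∈ spn u k :=
  Submodule.subset_span ⟨⟨i, hi⟩, rfl⟩

theorem spn_mono (u : ℕ → (Fin n → F)) {k l : ℕ} (h : k ≤ l) : spn u k ≤ spn u l :=
  Submodule.span_le.2 (by rintro _ ⟨i, rfl⟩; exact mem_spn u (lt_of_lt_of_le i.2 h))

theorem spn_congr {u u' : ℕ → (Fin n → F)} {k : ℕ} (h : ∀ i < k, u i = u' i) : spn u k = spn u' k := by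
  simp only [spn]
  congr 1
  exact congrArg Set.range (funext fun i => h i.val i.2)

/-- A chain of `m` isotropic vectors. -/
structure Chain (q m : ℕ) (u : ℕ → (Fin n → F)) : Prop where
  sing : ∀ i, i < m → Cfsg.hermForm n F q (u i) (u i) = 0
  shift : ∀ i j, i + 1 < m → j + 1 < m →
    Cfsg.hermForm n F q (u (i + 1)) (u (j + 1)) = Cfsg.hermForm n F q (u i) (u j)
  basis : ∀ k, 2 ≤ k → k ≤ m → ∃ b : Fin k → (Fin n → F),
    Unitary.Orthonormal (Cfsg.hermForm n F q) b ∧ Submodule.span F (Set.range b) = spn u k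

/-- A new norm direction gives the next orthonormal basis. -/
theorem exists_basis_succ (hF : Fintype.card F = q ^ 2) {u : ℕ → (Fin n → F)} {k : ℕ}
    {b : Fin k → (Fin n → F)} (hb : Unitary.Orthonormal (Cfsg.hermForm n F q) b)
    (hbs : Submodule.span F (Set.range b) = spn u k) {w x : Fin n → F} (hw : w ∈ spn u k)
    (hux : u k = w + x) (hxb : ∀ z ∈ spn u k, Cfsg.hermForm n F q x z = 0)
    (hx : Cfsg.hermForm n F q x x ≠ 0) :
    ∃ e : Fin n → F, Unitary.Orthonormal (Cfsg.hermForm n F q) (Fin.snoc b e : Fin (k + 1) → (Fin n → F)) ∧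
      Submodule.span F (Set.range (Fin.snoc b e : Fin (k + 1) → (Fin n → F))) = spn u (k + 1) ∧
      e ∈ Submodule.span F {x} := by
  have H := hermForm_isHerm hF n
  obtain ⟨γ, hγ⟩ := exists_norm_eq hF (H.self_fixed x)
  have hγ0 : γ ≠ 0 := fun h => hx (by rw [← hγ, h, zero_pow (Nat.succ_ne_zero q)])
  refine ⟨γ⁻¹ • x, hb.snoc hF ?_ (fun i => ?_), ?_, Submodule.smul_mem _ _ (Submodule.mem_span_singleton_self x)⟩
  · rw [H.smul_left, H.smul_right, ← mul_assoc, ← pow_succ', inv_pow, hγ, inv_mul_cancel₀ hx]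
  · rw [H.smul_right, (H.eq_zero_symm hF).1 (hxb _ (hbs ▸ Submodule.subset_span ⟨i, rfl⟩)), mul_zero]
  · rw [Fin.range_snoc, Submodule.span_insert, hbs]
    apply le_antisymm
    · refine sup_le ?_ (spn_mono u (Nat.le_succ k))
      rw [Submodule.span_singleton_le_iff_mem]
      refine Submodule.smul_mem _ _ ?_
      rw [show x = u k - w by rw [hux, add_sub_cancel_left]]
      exact Submodule.sub_mem _ (mem_spn u (Nat.lt_succ_self k)) (spn_mono u (Nat.le_succ k) hw)
    · rw [Submodule.span_le]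
      rintro _ ⟨i, rfl⟩
      rcases Nat.lt_succ_iff_lt_or_eq.1 i.2 with h | h
      · exact Submodule.mem_sup_right (mem_spn u h)
      · show u i.val ∈ _
        rw [h, hux]
        refine Submodule.add_mem _ (Submodule.mem_sup_right hw) (Submodule.mem_sup_left ?_)
        rw [Submodule.mem_span_singleton]
        exact ⟨γ, smul_inv_smul₀ hγ0 x⟩

variable {m : ℕ} {u : ℕ → (Fin n → F)}

theorem Chain.indep (hF : Fintype.card F = q ^ 2) (hc : Chain q m u) {k : ℕ} (h2 : 2 ≤ k) (hk : k ≤ m) :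
    LinearIndependent F fun i : Fin k => u i.val := by
  obtain ⟨b, hb, hbs⟩ := hc.basis k h2 hk
  have hb' := finrank_span_eq_card (hb.linearIndependent (hermForm_isHerm hF n))
  rw [linearIndependent_iff_card_eq_finrank_span, Set.finrank, show Submodule.span F (Set.range fun i : Fin k => u i.val) = Submodule.span F (Set.range b) from hbs.symm, hb']

theorem Chain.nondeg (hF : Fintype.card F = q ^ 2) (hc : Chain q m u) {k : ℕ} (h2 : 2 ≤ k) (hk : k ≤ m)
    {x : Fin n → F} (hx : x ∈ spn u k) (h : ∀ i, i < k → Cfsg.hermForm n F q x (u i) = 0) : x = 0 := by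
  obtain ⟨b, hb, hbs⟩ := hc.basis k h2 hk
  have H := hermForm_isHerm hF n
  rw [← hbs] at hx
  refine eq_zero_of_mem_perp hF hb hx fun i => ?_
  let S : Submodule F (Fin n → F) :=
    { carrier := {z | Cfsg.hermForm n F q x z = 0}
      add_mem' := fun {a c} ha hc' => by
        show Cfsg.hermForm n F q x (a + c) = 0
        rw [H.add_right hF, show Cfsg.hermForm n F q x a = 0 from ha,
          show Cfsg.hermForm n F q x c = 0 from hc', add_zero]
      zero_mem' := H.zero_right hF x
      smul_mem' := fun c a ha => by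
        show Cfsg.hermForm n F q x (c • a) = 0
        rw [H.smul_right, show Cfsg.hermForm n F q x a = 0 from ha, mul_zero] }
  have hle : Submodule.span F (Set.range b) ≤ S := by
    rw [hbs, Submodule.span_le]
    rintro _ ⟨j, rfl⟩
    exact h j.val j.2
  exact hle (Submodule.subset_span ⟨i, rfl⟩)

theorem perp_spn (hF : Fintype.card F = q ^ 2) {k : ℕ} {b : Fin k → (Fin n → F)}
    (hb : Unitary.Orthonormal (Cfsg.hermForm n F q) b)
    (hbs : Submodule.span F (Set.range b) = spn u k) (v : Fin n → F) :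
    ∀ z ∈ spn u k, Cfsg.hermForm n F q (pPart q b v) z = 0 := fun z hz =>
  ((hermForm_isHerm hF n).eq_zero_symm hF).1 (perp_span hF (pPart_perp hF hb v) (hbs ▸ hz))

theorem Chain.norm_ne (hF : Fintype.card F = q ^ 2) (hc : Chain q m u) {k : ℕ} (h2 : 2 ≤ k) (hk : k < m)
    {b : Fin k → (Fin n → F)} (hb : Unitary.Orthonormal (Cfsg.hermForm n F q) b)
    (hbs : Submodule.span F (Set.range b) = spn u k) :
    Cfsg.hermForm n F q (pPart q b (u k)) (pPart q b (u k)) ≠ 0 := by
  have H := hermForm_isHerm hF n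
  intro h0
  set x := pPart q b (u k) with hx
  have hwm : wPart q b (u k) ∈ spn u k := hbs ▸ wPart_mem (u k)
  have hxm : x ∈ spn u (k + 1) :=
    Submodule.sub_mem _ (mem_spn u (Nat.lt_succ_self k)) (spn_mono u (Nat.le_succ k) hwm)
  have hx0 : x = 0 := by
    refine hc.nondeg hF (by omega) (show k + 1 ≤ m by omega) hxm fun i hi => ?_
    rcases Nat.lt_succ_iff_lt_or_eq.1 hi with h | h
    · exact perp_spn hF hb hbs (u k) _ (mem_spn u h)
    · rw [h]
      have e : u k = wPart q b (u k) + x := (wPart_add_pPart (u k)).symm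
      conv_lhs => arg 5; rw [e]
      rw [H.add_right hF, perp_spn hF hb hbs (u k) _ hwm, h0, add_zero]
  have hmem : u k ∈ spn u k := by
    have e := wPart_add_pPart (q := q) (b := b) (u k)
    rw [← hx, hx0, add_zero] at e
    exact e ▸ hwm
  have hle : spn u (k + 1) ≤ spn u k := by
    rw [Submodule.span_le]
    rintro _ ⟨i, rfl⟩
    rcases Nat.lt_succ_iff_lt_or_eq.1 i.2 with h | h
    · exact mem_spn u h
    · show u i.val ∈ spn u k
      rw [h]; exact hmem
  have h1 := Submodule.finrank_mono hle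
  rw [finrank_span_eq_card (hc.indep hF h2 hk.le),
    finrank_span_eq_card (hc.indep hF (by omega) (show k + 1 ≤ m by omega))] at h1
  simp at h1

/-- One more vector. -/
theorem Chain.step (hF : Fintype.card F = q ^ 2) (hc : Chain q m u) (h3 : 3 ≤ m) (hm : m < n) :
    ∃ u', Chain q (m + 1) u' ∧ ∀ i, i < m → u' i = u i := by
  have H := hermForm_isHerm hF n
  obtain ⟨p', rfl⟩ : ∃ p', m = p' + 1 := ⟨m - 1, by omega⟩
  obtain ⟨b₀, hb₀, hb₀s⟩ := hc.basis p' (by omega) (by omega)
  obtain ⟨b₁, hb₁, hb₁s⟩ := hc.basis (p' + 1) (by omega) le_rfl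
  have hν := hc.norm_ne hF (k := p') (by omega) (by omega) hb₀ hb₀s
  set x := pPart q b₀ (u p') with hx
  set w := wPart q b₀ (u p') with hw
  have hwm : w ∈ spn u p' := hb₀s ▸ wPart_mem (u p')
  obtain ⟨c, hcw⟩ := (Submodule.mem_span_range_iff_exists_fun F).1 hwm
  set p := ∑ i : Fin p', c i • u (i.val + 1) with hp
  have hpm : p ∈ spn u (p' + 1) :=
    Submodule.sum_mem _ fun i _ => Submodule.smul_mem _ _ (mem_spn u (by omega))
  have hpu : ∀ j, j < p' → Cfsg.hermForm n F q p (u (j + 1)) = Cfsg.hermForm n F q w (u j) := fun j hj => by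
    rw [hp, ← hcw, H.sum_left, H.sum_left]
    exact Finset.sum_congr rfl fun i _ => by
      rw [H.smul_left, H.smul_left, hc.shift _ _ (by omega) (by omega)]
  have hpp : Cfsg.hermForm n F q p p = Cfsg.hermForm n F q w w := by
    conv_lhs => arg 5; rw [hp]
    conv_rhs => arg 5; rw [← hcw]
    rw [H.sum_right hF, H.sum_right hF]
    exact Finset.sum_congr rfl fun i _ => by rw [H.smul_right, H.smul_right, hpu i i.2]
  obtain ⟨e, he, hbe⟩ := exists_orthonormal_step hF H (hermForm_nondeg hF n) hb₁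
    (by rw [Module.finrank_fin_fun]; omega)
  have hez : ∀ z ∈ spn u (p' + 1), Cfsg.hermForm n F q e z = 0 := fun z hz =>
    (H.eq_zero_symm hF).1 (perp_span hF (fun i => (H.eq_zero_symm hF).1 (hbe i)) (hb₁s ▸ hz))
  obtain ⟨γ, hγ⟩ := exists_norm_eq hF (H.self_fixed x)
  set v := p + γ • e with hv
  have hγee : Cfsg.hermForm n F q (γ • e) (γ • e) = Cfsg.hermForm n F q x x := by
    rw [H.smul_left, H.smul_right, he, mul_one, ← pow_succ', hγ]
  have hvu : ∀ j, j < p' → Cfsg.hermForm n F q v (u (j + 1)) = Cfsg.hermForm n F q (u p') (u j) := fun j hj => by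
    rw [hv, H.add_left, H.smul_left, hez _ (mem_spn u (by omega)), mul_zero, add_zero, hpu j hj,
      ← wPart_add_pPart (q := q) (b := b₀) (u p'), ← hw, ← hx, H.add_left,
      perp_spn hF hb₀ hb₀s (u p') _ (mem_spn u hj), add_zero]
  have hpe : Cfsg.hermForm n F q p e = 0 := (H.eq_zero_symm hF).1 (hez p hpm)
  have hvv : Cfsg.hermForm n F q v v = 0 := by
    have h0 := hc.sing p' (by omega)
    rw [← wPart_add_pPart (q := q) (b := b₀) (u p'), ← hw, ← hx, H.add_left, H.add_right hF,
      H.add_right hF, perp_spn hF hb₀ hb₀s (u p') _ hwm,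
      (H.eq_zero_symm hF).1 (perp_spn hF hb₀ hb₀s (u p') _ hwm)] at h0
    rw [hv, H.add_left, H.add_right hF, H.add_right hF, hγee, hpp, H.smul_left, H.smul_right, hpe,
      hez p hpm]
    linear_combination h0
  let u' : ℕ → (Fin n → F) := fun i => if i = p' + 1 then v else u i
  have hu' : ∀ i, i < p' + 1 → u' i = u i := fun i hi => if_neg (by omega)
  have hu'v : u' (p' + 1) = v := if_pos rfl
  refine ⟨u', ⟨fun i hi => ?_, fun i j hi hj => ?_, fun k h2 hk => ?_⟩, hu'⟩
  · rcases Nat.lt_succ_iff_lt_or_eq.1 hi with h | h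
    · rw [hu' i h]; exact hc.sing i h
    · rw [h, hu'v]; exact hvv
  · rw [hu' i (by omega), hu' j (by omega)]
    rcases Nat.lt_succ_iff_lt_or_eq.1 hi with h | h <;> rcases Nat.lt_succ_iff_lt_or_eq.1 hj with h' | h'
    · rw [hu' _ h, hu' _ h', hc.shift i j h h']
    · obtain rfl : j = p' := by omega
      rw [hu' _ h, hu'v, H.conj_symm v, hvu i (by omega), ← H.conj_symm]
    · obtain rfl : i = p' := by omega
      rw [hu'v, hu' _ h', hvu j (by omega)]
    · obtain rfl : i = p' := by omega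
      obtain rfl : j = i := by omega
      rw [hu'v, hvv, hc.sing j (by omega)]
  · rcases Nat.lt_or_eq_of_le hk with h | h
    · rw [spn_congr (u' := u) fun i hi => hu' i (by omega)]
      exact hc.basis k h2 (by omega)
    · subst h
      have hsp : spn u' (p' + 1) = spn u (p' + 1) := spn_congr hu'
      obtain ⟨e', he1, he2, -⟩ := exists_basis_succ hF (u := u') hb₁ (hb₁s.trans hsp.symm)
        (w := p) (x := γ • e) (hsp ▸ hpm) hu'v
        (fun z hz => by rw [H.smul_left, hez z (hsp ▸ hz), mul_zero]) (by rw [hγee]; exact hν)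
      exact ⟨_, he1, he2⟩

theorem Chain.extend (hF : Fintype.card F = q ^ 2) (hc : Chain q m u) (h3 : 3 ≤ m) :
    ∀ N, m ≤ N → N ≤ n → ∃ u', Chain q N u' ∧ ∀ i, i < m → u' i = u i := by
  intro N hN
  induction N, hN using Nat.le_induction with
  | base => exact fun _ => ⟨u, hc, fun _ _ => rfl⟩
  | succ N hN ih =>
    intro hn
    obtain ⟨u', hc', hu'⟩ := ih (by omega)
    obtain ⟨u'', hc'', hu''⟩ := hc'.step hF (by omega) (by omega)
    exact ⟨u'', hc'', fun i hi => (hu'' i (by omega)).trans (hu' i hi)⟩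

theorem Chain.exists_shift (hF : Fintype.card F = q ^ 2) (hc : Chain q n u) (hn : 3 ≤ n) :
    ∃ B : Matrix.GeneralLinearGroup (Fin n) F, B ∈ suGL n F q ∧
      ∀ i, i + 1 < n → (B : Matrix (Fin n) (Fin n) F) *ᵥ u i = u (i + 1) := by
  have H := hermForm_isHerm hF n
  set k := n - 1 with hk
  set w : Fin k → (Fin n → F) := fun i => u (i.val + 1) with hw
  have hgram : ∀ c d : Fin k → F, Cfsg.hermForm n F q (∑ i, c i • w i) (∑ i, d i • w i) =
      Cfsg.hermForm n F q (∑ i, c i • u i.val) (∑ i, d i • u i.val) := fun c d => by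
    simp only [H.sum_left, H.sum_right hF, H.smul_left, H.smul_right]
    refine Finset.sum_congr rfl fun i _ => Finset.sum_congr rfl fun j _ => ?_
    rw [hw, hc.shift _ _ (by omega) (by omega)]
  have hu0 : ∀ c : Fin k → F, (∀ d : Fin k → F,
      Cfsg.hermForm n F q (∑ i, c i • w i) (∑ i, d i • w i) = 0) → c = 0 := by
    intro c h
    have hc' : ∑ i, c i • u i.val = 0 := by
      refine hc.nondeg hF (by omega) (show k ≤ n by omega) ?_ fun j hj => ?_
      · exact Submodule.sum_mem _ fun i _ => Submodule.smul_mem _ _ (mem_spn u i.2)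
      · have := h (Pi.single ⟨j, hj⟩ 1)
        rwa [hgram, Finset.sum_eq_single (a := (⟨j, hj⟩ : Fin k)) (f := fun i => (Pi.single (⟨j, hj⟩ : Fin k) (1 : F) : Fin k → F) i • u i.val)
          (fun i _ hi => by simp [Pi.single_eq_of_ne hi]) (by simp), Pi.single_eq_same, one_smul] at this
    exact funext (Fintype.linearIndependent_iff.1 (hc.indep hF (by omega) (show k ≤ n by omega)) c hc')
  have hwi : LinearIndependent F w := Fintype.linearIndependent_iff.2 fun c hc' i =>
    congrFun (hu0 c fun d => by rw [hc', H.zero_left]) i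
  obtain ⟨b, hb, hbs⟩ := subspace_orthonormalBasis hF (Submodule.span F (Set.range w)) fun x hx hxp => by
    obtain ⟨c, rfl⟩ := (Submodule.mem_span_range_iff_exists_fun F).1 hx
    rw [hu0 c fun d => hxp _ (Submodule.sum_mem _ fun i _ =>
      Submodule.smul_mem _ _ (Submodule.subset_span ⟨i, rfl⟩))]
    simp
  obtain ⟨e, he, hbe⟩ := exists_orthonormal_step hF H (hermForm_nondeg hF n) hb
    (by rw [finrank_span_eq_card hwi, Fintype.card_fin, Module.finrank_fin_fun]; omega)
  obtain ⟨g, hg⟩ := exists_su_witt hF (hc.indep hF (show 2 ≤ k by omega) (by omega)) hwi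
    (fun i j => hc.shift _ _ (by omega) (by omega)) he (fun i =>
      perp_span hF (fun j => (H.eq_zero_symm hF).1 (hbe j))
        (hbs.symm ▸ Submodule.subset_span ⟨i, rfl⟩))
  exact ⟨_, suToGU_mem_suGL g, fun i hi => hg ⟨i, by omega⟩⟩

/-- Orbit of a centre. -/
theorem Chain.centres (hc : Chain q n u) {M : Subgroup (Matrix.GeneralLinearGroup (Fin n) F)}
    {B : Matrix.GeneralLinearGroup (Fin n) F} (hBM : B ∈ M) (hB : B ∈ suGL n F q)
    (hBu : ∀ i, i + 1 < n → (B : Matrix (Fin n) (Fin n) F) *ᵥ u i = u (i + 1))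
    (h0 : u 0 ∈ Unitary.centres q M) : ∀ i, i < n → u i ∈ Unitary.centres q M := by
  intro i
  induction i with
  | zero => exact fun _ => h0
  | succ i ih =>
    intro hi
    rw [← hBu i hi]
    exact centres_conj hBM hB (ih (by omega))

/-- Growing a full subspace along a chain. -/
theorem Chain.full (hF : Fintype.card F = q ^ 2) (hc : Chain q m u)
    {M : Subgroup (Matrix.GeneralLinearGroup (Fin n) F)} (hu : ∀ i, i < m → u i ∈ Unitary.centres q M)
    {k₀ : ℕ} (h2 : 2 ≤ k₀) (hq : 4 ≤ k₀ ∨ 3 ≤ q) {b₀ : Fin k₀ → (Fin n → F)}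
    (hb₀ : Unitary.Orthonormal (Cfsg.hermForm n F q) b₀)
    (hb₀s : Submodule.span F (Set.range b₀) = spn u k₀) (hfull : Full q M b₀) :
    ∀ k, k₀ ≤ k → k ≤ m → ∃ b : Fin k → (Fin n → F), Unitary.Orthonormal (Cfsg.hermForm n F q) b ∧
      Submodule.span F (Set.range b) = spn u k ∧ Full q M b := by
  intro k hk
  induction k, hk using Nat.le_induction with
  | base => exact fun _ => ⟨b₀, hb₀, hb₀s, hfull⟩
  | succ k hk ih =>
    intro hkm
    obtain ⟨b, hb, hbs, hbf⟩ := ih (by omega)
    have hne := hc.norm_ne hF (by omega) (show k < m by omega) hb hbs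
    obtain ⟨e, he1, he2, he3⟩ := exists_basis_succ hF hb hbs (hbs ▸ wPart_mem (u k))
      (wPart_add_pPart (u k)).symm (perp_spn hF hb hbs (u k)) hne
    refine ⟨_, he1, he2, full_snoc hF (by omega) ?_ hb hbf (hu k (by omega)) hne he3⟩
    omega

end Cfsg.Agent.UnitaryTwoGen
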