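import Cfsg.Agent.Lib.Unitary.MaximalNondeg

/-!
# Two generators of `PSU`: generation from transvection centres

* `rk v w` : the map `x ↦ x + h(x, v) w`; `exists_gl`, `exists_pairScale`
* `full_pair`, `full_snoc` : all isotropic vectors of a nondegenerate subspace are centres, one
  dimension at a time
* `centre_of_scaled` : one transvection and one element scaling its centre give a centre
* `psu_two_gen_of_full` : two elements whose group has all centres give two generators of `PSU`
-/

set_option autoImplicit false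
set_option linter.unusedSectionVars false

namespace Cfsg.Agent.UnitaryTwoGen

open scoped Matrix
open Cfsg.Agent.Unitary

variable {F : Type*} [Field F] [Fintype F] {q n : ℕ}

/-- The matrix of `x ↦ x + h(x, v) w`. -/
def rk (q : ℕ) (v w : Fin n → F) : Matrix (Fin n) (Fin n) F :=
  1 + Matrix.vecMulVec w (fun j => v j ^ q)

theorem rk_mulVec (v w x : Fin n → F) :
    rk q v w *ᵥ x = x + Cfsg.hermForm n F q x v • w := by
  have e : (fun j => v j ^ q) ⬝ᵥ x = Cfsg.hermForm n F q x v := by
    simp [dotProduct, Cfsg.hermForm, mul_comm]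
  rw [rk, Matrix.add_mulVec, Matrix.one_mulVec, Matrix.vecMulVec_mulVec, e, op_smul_eq_smul]

theorem rk_det (v w : Fin n → F) : (rk q v w).det = 1 + Cfsg.hermForm n F q w v := by
  rw [rk, Matrix.vecMulVec_eq Unit, Matrix.det_one_add_replicateCol_mul_replicateRow]
  simp [dotProduct, Cfsg.hermForm, mul_comm]

theorem exists_gl {A : Matrix (Fin n) (Fin n) F} (hA : IsUnitary q A)
    (hd : A.det = 1) :
    ∃ g : Matrix.GeneralLinearGroup (Fin n) F, g ∈ suGL n F q ∧ (g : Matrix (Fin n) (Fin n) F) = A :=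
  ⟨_, suToGU_mem_suGL (suOfUnitary A hA hd), rfl⟩

/-- Scaling a hyperbolic pair. -/
theorem exists_pairScale (hF : Fintype.card F = q ^ 2) {r s : Fin n → F}
    (hr : Cfsg.hermForm n F q r r = 0) (hs : Cfsg.hermForm n F q s s = 0)
    (hrs : Cfsg.hermForm n F q r s = 1) {l : F} (hl : l ≠ 0) :
    ∃ A : Matrix (Fin n) (Fin n) F, IsUnitary q A ∧ A.det = l / l ^ q ∧
      ∀ x, A *ᵥ x = x + (((l ^ q)⁻¹ - 1) * Cfsg.hermForm n F q x r) • s +
        ((l - 1) * Cfsg.hermForm n F q x s) • r := by
  have H := hermForm_isHerm hF n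
  have hsr : Cfsg.hermForm n F q s r = 1 := by rw [H.conj_symm r s, hrs, one_pow]
  have hlq : l ^ q ≠ 0 := pow_ne_zero _ hl
  set b := (l ^ q)⁻¹ - 1 with hb
  set a := l - 1 with ha
  have hAB : ∀ x, (rk q s (a • r) * rk q r (b • s)) *ᵥ x =
      x + (b * Cfsg.hermForm n F q x r) • s + (a * Cfsg.hermForm n F q x s) • r := fun x => by
    rw [← Matrix.mulVec_mulVec, rk_mulVec, rk_mulVec, H.add_left, H.smul_left, H.smul_left, hs,
      smul_smul, smul_smul, mul_comm (Cfsg.hermForm n F q x r), mul_zero, mul_zero, add_zero,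
      mul_comm (Cfsg.hermForm n F q x s)]
  refine ⟨rk q s (a • r) * rk q r (b • s), fun x y => ?_, ?_, hAB⟩
  · have h1 : a + b ^ q + a * b ^ q = 0 := by
      simp only [ha, hb, sub_pow_q hF, one_pow, inv_pow, pow_q_pow_q hF]
      field_simp
      ring
    have h2 : b + a ^ q + b * a ^ q = 0 := by
      simp only [ha, hb, sub_pow_q hF, one_pow]
      field_simp
      ring
    rw [hAB, hAB]
    simp only [H.add_left, H.add_right hF, H.smul_left, H.smul_right, hr, hs, hrs, hsr, mul_pow]
    rw [H.conj_symm y r, H.conj_symm y s]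
    linear_combination (Cfsg.hermForm n F q x s * Cfsg.hermForm n F q y r ^ q) * h1 +
      (Cfsg.hermForm n F q x r * Cfsg.hermForm n F q y s ^ q) * h2
  · rw [Matrix.det_mul, rk_det, rk_det, H.smul_left, H.smul_left, hrs, hsr, ha, hb]
    field_simp
    ring

theorem glTransvection_apply (hF : Fintype.card F = q ^ 2) (v x : Fin n → F)
    (hv : Cfsg.hermForm n F q v v = 0) (c : F) (hc : c + c ^ q = 0) :
    (glTransvection hF v hv c hc : Matrix (Fin n) (Fin n) F) *ᵥ x =
      x + (c * Cfsg.hermForm n F q x v) • v :=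
  transvection_mulVec v x c

theorem glTransvection_val (hF : Fintype.card F = q ^ 2) (v : Fin n → F)
    (hv : Cfsg.hermForm n F q v v = 0) (c : F) (hc : c + c ^ q = 0) :
    (glTransvection hF v hv c hc : Matrix (Fin n) (Fin n) F) = Cfsg.unitaryTransvection n q v c :=
  rfl

/-- The scalars whose transvection at `u` lies in `M`. -/
def transScalars (hF : Fintype.card F = q ^ 2) (M : Subgroup (Matrix.GeneralLinearGroup (Fin n) F))
    (u : Fin n → F) (hu : Cfsg.hermForm n F q u u = 0) : AddSubgroup F where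
  carrier := {c | c + c ^ q = 0 ∧
    ∃ g ∈ M, (g : Matrix (Fin n) (Fin n) F) = Cfsg.unitaryTransvection n q u c}
  zero_mem' := ⟨by simp [zero_pow_q hF], 1, one_mem M, by rw [transvection_zero, Units.val_one]⟩
  add_mem' := fun {c d} hc hd => by
    obtain ⟨hc1, g, hg, hgv⟩ := hc
    obtain ⟨hd1, g', hg', hgv'⟩ := hd
    refine ⟨by rw [add_pow_q hF]; linear_combination hc1 + hd1, g * g', mul_mem hg hg', ?_⟩
    rw [Units.val_mul, hgv, hgv', transvection_mul u hu]
  neg_mem' := fun {c} hc => by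
    obtain ⟨hc1, g, hg, hgv⟩ := hc
    refine ⟨by rw [neg_pow_q hF]; linear_combination -hc1, g⁻¹, inv_mem hg, ?_⟩
    have h1 : (g : Matrix (Fin n) (Fin n) F) * Cfsg.unitaryTransvection n q u (-c) = 1 := by
      rw [hgv, transvection_mul u hu, add_neg_cancel, transvection_zero]
    exact Units.inv_eq_of_mul_eq_one_right h1

/-- An element of `M` scaling `u` by `l` multiplies the scalars by `l^(q+1)`. -/
theorem transScalars_scale (hF : Fintype.card F = q ^ 2) {M : Subgroup (Matrix.GeneralLinearGroup (Fin n) F)}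
    {u : Fin n → F} (hu : Cfsg.hermForm n F q u u = 0) {g : Matrix.GeneralLinearGroup (Fin n) F}
    (hgM : g ∈ M) (hg : g ∈ suGL n F q) {l : F} (hgu : (g : Matrix (Fin n) (Fin n) F) *ᵥ u = l • u)
    {c : F} (hc : c ∈ transScalars hF M u hu) : c * l ^ (q + 1) ∈ transScalars hF M u hu := by
  obtain ⟨hc1, t, ht, htv⟩ := hc
  refine ⟨by rw [mul_pow, pow_q_succ_fixed hF]; linear_combination l ^ (q + 1) * hc1,
    g * t * g⁻¹, mul_mem (mul_mem hgM ht) (inv_mem hgM), ?_⟩
  have e := transvection_conj (⟨g, hg.1⟩ : Cfsg.GU n F q) u c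
  simp only at e
  rw [hgu] at e
  rw [← transvection_smul l c u, Units.val_mul, Units.val_mul, htv, e, mul_assoc, ← Units.val_mul,
    mul_inv_cancel, Units.val_one, mul_one]

/-- A transvection and the powers of `μ` fill the root group, when their differences fill the fixed field. -/
theorem centre_of_scaled (hF : Fintype.card F = q ^ 2) {M : Subgroup (Matrix.GeneralLinearGroup (Fin n) F)}
    {u : Fin n → F} (hu : Cfsg.hermForm n F q u u = 0) {g : Matrix.GeneralLinearGroup (Fin n) F}
    (hgM : g ∈ M) (hg : g ∈ suGL n F q) {l : F} (hgu : (g : Matrix (Fin n) (Fin n) F) *ᵥ u = l • u)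
    {c : F} (hc0 : c ≠ 0) (hc : c ∈ transScalars hF M u hu)
    (hl : ∀ t : F, t ^ q = t → ∃ x y : F, t = x - y ∧ (x = 0 ∨ ∃ i : ℕ, x = (l ^ (q + 1)) ^ i) ∧
      (y = 0 ∨ ∃ i : ℕ, y = (l ^ (q + 1)) ^ i)) :
    u ∈ centres q M := by
  refine ⟨hu, fun g' d hd hg' => ?_⟩
  have hpow : ∀ x : F, (x = 0 ∨ ∃ i : ℕ, x = (l ^ (q + 1)) ^ i) → c * x ∈ transScalars hF M u hu := by
    rintro x (rfl | ⟨i, rfl⟩)
    · rw [mul_zero]; exact zero_mem _
    · induction i with
      | zero => rwa [pow_zero, mul_one]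
      | succ i ih =>
        rw [pow_succ, ← mul_assoc]
        exact transScalars_scale hF hu hgM hg hgu ih
  obtain ⟨x, y, hxy, hx, hy⟩ := hl (d / c) (by
    rw [div_pow, eq_neg_of_add_eq_zero_right hd, eq_neg_of_add_eq_zero_right hc.1, neg_div_neg_eq])
  have hdS : d ∈ transScalars hF M u hu := by
    rw [show d = c * x - c * y by rw [← mul_sub, ← hxy, mul_div_cancel₀ _ hc0]]
    exact sub_mem (hpow x hx) (hpow y hy)
  obtain ⟨t, ht, htv⟩ := hdS.2
  rwa [Units.ext (hg'.trans htv.symm)]

/-- All isotropic vectors in the span of `b` are centres of `M`. -/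
def Full (q : ℕ) (M : Subgroup (Matrix.GeneralLinearGroup (Fin n) F)) {k : ℕ} (b : Fin k → (Fin n → F)) : Prop :=
  ∀ v ∈ Submodule.span F (Set.range b), Cfsg.hermForm n F q v v = 0 → v ∈ centres q M

section Growth

variable (hF : Fintype.card F = q ^ 2) {M : Subgroup (Matrix.GeneralLinearGroup (Fin n) F)}
include hF

/-- An orthonormal basis of a hyperbolic line. -/
theorem exists_pair_basis {r s : Fin n → F} (hr : Cfsg.hermForm n F q r r = 0)
    (hs : Cfsg.hermForm n F q s s = 0) (hrs : Cfsg.hermForm n F q r s ≠ 0) :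
    ∃ b : Fin 2 → (Fin n → F), Unitary.Orthonormal (Cfsg.hermForm n F q) b ∧
      Submodule.span F (Set.range b) = Submodule.span F {r, s} := by
  have H := hermForm_isHerm hF n
  obtain ⟨t, ht⟩ := exists_trace_eq hF (c := (1 : F)) (one_pow q)
  obtain ⟨ε, hε⟩ := exists_eps hF
  have hε0 : ε ≠ 0 := fun h => by simp [h] at hε
  set s' := ((Cfsg.hermForm n F q r s) ^ q)⁻¹ • s with hs'
  have hrs' : Cfsg.hermForm n F q r s' = 1 := by
    rw [hs', H.smul_right, inv_pow, pow_q_pow_q hF, inv_mul_cancel₀ hrs]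
  have hsr' : Cfsg.hermForm n F q s' r = 1 := by rw [H.conj_symm r s', hrs', one_pow]
  have hs'0 : Cfsg.hermForm n F q s' s' = 0 := by
    rw [hs', H.smul_left, H.smul_right, hs, mul_zero, mul_zero]
  have haa : Cfsg.hermForm n F q (t • r + s') (t • r + s') = 1 := by
    simp only [H.add_left, H.add_right hF, H.smul_left, H.smul_right, hr, hs'0, hrs', hsr']
    linear_combination ht
  have hbb : Cfsg.hermForm n F q (r - (t • r + s')) (r - (t • r + s')) = -1 := by
    simp only [H.sub_left, H.sub_right hF, H.add_left, H.add_right hF, H.smul_left, H.smul_right,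
      hr, hs'0, hrs', hsr']
    linear_combination ht
  have hab : Cfsg.hermForm n F q (r - (t • r + s')) (t • r + s') = 0 := by
    simp only [H.sub_left, H.add_left, H.add_right hF, H.smul_left, H.smul_right,
      hr, hs'0, hrs', hsr']
    linear_combination -ht
  let b : Fin 2 → (Fin n → F) := ![t • r + s', ε⁻¹ • (r - (t • r + s'))]
  refine ⟨b, ⟨fun i => ?_, fun i j hij => ?_⟩, le_antisymm ?_ ?_⟩
  · fin_cases i
    · simpa [b] using haa
    · simp [b, H.smul_left, H.smul_right, hbb]
      rw [← mul_inv, ← pow_succ', hε]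
      simp
  · fin_cases i <;> fin_cases j
    · exact absurd rfl hij
    · simp [b, H.smul_right, (H.eq_zero_symm hF).1 hab]
    · simp [b, H.smul_left, hab]
    · exact absurd rfl hij
  · have hsm : s' ∈ Submodule.span F ({r, s} : Set (Fin n → F)) :=
      Submodule.smul_mem _ _ (Submodule.subset_span (by simp))
    have hrm : r ∈ Submodule.span F ({r, s} : Set (Fin n → F)) := Submodule.subset_span (by simp)
    have ham : t • r + s' ∈ Submodule.span F ({r, s} : Set (Fin n → F)) :=
      Submodule.add_mem _ (Submodule.smul_mem _ _ hrm) hsm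
    rw [Submodule.span_le]
    rintro _ ⟨i, rfl⟩
    fin_cases i
    · exact ham
    · exact Submodule.smul_mem _ _ (Submodule.sub_mem _ hrm ham)
  · have h0 : b 0 ∈ Submodule.span F (Set.range b) := Submodule.subset_span ⟨0, rfl⟩
    have h1 : b 1 ∈ Submodule.span F (Set.range b) := Submodule.subset_span ⟨1, rfl⟩
    have hr' : r ∈ Submodule.span F (Set.range b) := by
      rw [show r = b 0 + ε • b 1 by simp [b, smul_inv_smul₀ hε0]]
      exact Submodule.add_mem _ h0 (Submodule.smul_mem _ _ h1)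
    have hs1 : s' ∈ Submodule.span F (Set.range b) := by
      rw [show s' = b 0 - t • r by simp [b]]
      exact Submodule.sub_mem _ h0 (Submodule.smul_mem _ _ hr')
    rw [Submodule.span_le, Set.insert_subset_iff, Set.singleton_subset_iff]
    refine ⟨hr', ?_⟩
    rwa [hs', Submodule.smul_mem_iff _ (inv_ne_zero (pow_ne_zero _ hrs))] at hs1

/-- The hyperbolic line of two centres. -/
theorem full_pair {r s : Fin n → F} (hr : r ∈ centres q M) (hs : s ∈ centres q M)
    (hrs : Cfsg.hermForm n F q r s ≠ 0) {k : ℕ} {b : Fin k → (Fin n → F)}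
    (hb : Submodule.span F (Set.range b) = Submodule.span F {r, s}) : Full q M b := by
  intro v hv hv0
  have H := hermForm_isHerm hF n
  rw [hb, Submodule.mem_span_pair] at hv
  obtain ⟨α, β, rfl⟩ := hv
  by_cases hβ : β = 0
  · rw [hβ, zero_smul, add_zero]
    exact centres_smul hF hr α
  have hsr0 : Cfsg.hermForm n F q s r ≠ 0 := fun h => hrs ((H.eq_zero_symm hF).1 h)
  have key : α * β ^ q * Cfsg.hermForm n F q r s + β * α ^ q * Cfsg.hermForm n F q s r = 0 := by
    simp only [H.add_left, H.add_right hF, H.smul_left, H.smul_right, hr.1, hs.1] at hv0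
    linear_combination hv0
  set c := (α / β) / Cfsg.hermForm n F q s r with hc
  have hc' : c + c ^ q = 0 := by
    rw [hc, div_pow, div_pow, ← H.conj_symm s r]
    field_simp
    linear_combination key
  have hstep := centres_step hF hr hs hc'
  rw [hc, div_mul_cancel₀ _ hsr0] at hstep
  have := centres_smul hF hstep β
  rwa [smul_add, smul_smul, mul_div_cancel₀ _ hβ, add_comm] at this

/-- Elements of `M` realising every element of `SU` of a full subspace. -/
theorem exists_lift {k : ℕ} (hk : 4 ≤ k ∨ (k = 3 ∧ 3 ≤ q) ∨ k ≤ 2) {b : Fin k → (Fin n → F)}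
    (hb : Unitary.Orthonormal (Cfsg.hermForm n F q) b) (hM : Full q M b) (g : Cfsg.SU k F q) :
    ∃ G : Matrix.GeneralLinearGroup (Fin n) F, G ∈ M ∧ G ∈ suGL n F q ∧
      (∀ y : Fin k → F, (G : Matrix (Fin n) (Fin n) F) *ᵥ (∑ i, y i • b i) = ∑ i, suAct g y i • b i) ∧
      ∀ z, (∀ i, Cfsg.hermForm n F q z (b i) = 0) → (G : Matrix (Fin n) (Fin n) F) *ᵥ z = z := by
  have H := hermForm_isHerm hF n
  let P : Cfsg.SU k F q → Prop := fun g => ∃ G : Matrix.GeneralLinearGroup (Fin n) F,
    G ∈ M ∧ G ∈ suGL n F q ∧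
      (∀ y : Fin k → F, (G : Matrix (Fin n) (Fin n) F) *ᵥ (∑ i, y i • b i) = ∑ i, suAct g y i • b i) ∧
      ∀ z, (∀ i, Cfsg.hermForm n F q z (b i) = 0) → (G : Matrix (Fin n) (Fin n) F) *ᵥ z = z
  let S : Subgroup (Cfsg.SU k F q) :=
    { carrier := {g | P g}
      one_mem' := ⟨1, one_mem _, one_mem _, fun y => by simp, fun z _ => by simp⟩
      mul_mem' := by
        rintro g g' ⟨G, h1, h2, h3, h4⟩ ⟨G', h1', h2', h3', h4'⟩
        refine ⟨G * G', mul_mem h1 h1', mul_mem h2 h2', fun y => ?_, fun z hz => ?_⟩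
        · rw [Units.val_mul, ← Matrix.mulVec_mulVec, h3', h3, suAct_mul]
        · rw [Units.val_mul, ← Matrix.mulVec_mulVec, h4' z hz, h4 z hz]
      inv_mem' := by
        rintro g ⟨G, h1, h2, h3, h4⟩
        refine ⟨G⁻¹, inv_mem h1, inv_mem h2, fun y => ?_, fun z hz => ?_⟩
        · have := h3 (suAct g⁻¹ y)
          rw [suAct_suAct_inv] at this
          rw [← this, Matrix.mulVec_mulVec, ← Units.val_mul, inv_mul_cancel, Units.val_one,
            Matrix.one_mulVec]
        · conv_lhs => rw [← h4 z hz]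
          rw [Matrix.mulVec_mulVec, ← Units.val_mul, inv_mul_cancel, Units.val_one,
            Matrix.one_mulVec] }
  suffices h : transvectionGroup k F q ≤ S from h (by rw [transvectionGroup_eq_top hF hk]; trivial)
  rw [transvectionGroup, Subgroup.closure_le]
  rintro A ⟨y₀, c, hy₀, hA⟩
  rcases eq_or_ne y₀ 0 with h0 | h0
  · have : A = 1 := Subtype.ext (Subtype.ext (by simp [hA, h0, Cfsg.unitaryTransvection]))
    rw [this]
    exact S.one_mem
  have hc := (transvection_isometry_iff hF y₀ h0 hy₀ c).1 (hA ▸ (A.2 : IsUnitary q _))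
  set v := ∑ i, y₀ i • b i with hv
  have hv0 : Cfsg.hermForm n F q v v = 0 := (Unitary.Orthonormal.inner_sum hF H hb y₀ y₀).trans hy₀
  have hvm : v ∈ Submodule.span F (Set.range b) :=
    Submodule.sum_mem _ fun i _ => Submodule.smul_mem _ _ (Submodule.subset_span ⟨i, rfl⟩)
  refine ⟨glTransvection hF v hv0 c hc, (hM v hvm hv0).2 _ c hc rfl, suToGU_mem_suGL _, fun y => ?_,
    fun z hz => ?_⟩
  · have e : suAct A y = y + (c * Cfsg.hermForm k F q y y₀) • y₀ := by
      rw [suAct, hA, transvection_mulVec]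
    rw [glTransvection_apply, hv, Unitary.Orthonormal.inner_sum hF H hb y y₀, e]
    simp only [Pi.add_apply, Pi.smul_apply, smul_eq_mul, add_smul, mul_smul, Finset.sum_add_distrib,
      ← Finset.smul_sum]
    rfl
  · rw [glTransvection_apply, (H.eq_zero_symm hF).1 (perp_span hF hz hvm), mul_zero, zero_smul,
      add_zero]

/-- Adding one dimension to a full subspace. -/
theorem full_snoc {k : ℕ} (hk2 : 2 ≤ k) (hk : 4 ≤ k ∨ (k = 3 ∧ 3 ≤ q) ∨ k ≤ 2)
    {b : Fin k → (Fin n → F)} (hb : Unitary.Orthonormal (Cfsg.hermForm n F q) b) (hM : Full q M b)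
    {v : Fin n → F} (hv : v ∈ centres q M)
    (hx : Cfsg.hermForm n F q (pPart q b v) (pPart q b v) ≠ 0)
    {e : Fin n → F} (he : e ∈ Submodule.span F {pPart q b v}) :
    Full q M (Fin.snoc b e : Fin (k + 1) → (Fin n → F)) := by
  have H := hermForm_isHerm hF n
  set x := pPart q b v with hxdef
  set w := wPart q b v with hwdef
  intro v' hv' hv0'
  obtain ⟨c, rfl⟩ := (Submodule.mem_span_range_iff_exists_fun F).1 hv'
  obtain ⟨a, rfl⟩ := Submodule.mem_span_singleton.1 he
  simp only [Fin.sum_univ_castSucc, Fin.snoc_castSucc, Fin.snoc_last] at hv0' ⊢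
  set l := c (Fin.last k) * a with hl
  rw [smul_smul, ← hl] at hv0' ⊢
  set w' := ∑ i : Fin k, c (Fin.castSucc i) • b i with hw'def
  have hw'm : w' ∈ Submodule.span F (Set.range b) :=
    Submodule.sum_mem _ fun i _ => Submodule.smul_mem _ _ (Submodule.subset_span ⟨i, rfl⟩)
  by_cases hl0 : l = 0
  · rw [hl0, zero_smul, add_zero] at hv0' ⊢
    exact hM w' hw'm hv0'
  have hxb := pPart_perp hF hb v
  have hwx : Cfsg.hermForm n F q w x = 0 := perp_span hF hxb (wPart_mem v)
  have hw'x : Cfsg.hermForm n F q w' x = 0 := perp_span hF hxb hw'm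
  set ν := Cfsg.hermForm n F q x x with hν
  have hw : Cfsg.hermForm n F q w w = -ν := by
    have := hv.1
    rw [← wPart_add_pPart (q := q) (b := b) v, ← hxdef, ← hwdef, H.add_left, H.add_right hF,
      H.add_right hF, hwx, (H.eq_zero_symm hF).1 hwx] at this
    linear_combination this
  have hu : Cfsg.hermForm n F q (l⁻¹ • w') (l⁻¹ • w') = -ν := by
    have h := hv0'
    simp only [H.add_left, H.add_right hF, H.smul_left, H.smul_right, hw'x,
      (H.eq_zero_symm hF).1 hw'x] at h
    rw [H.smul_left, H.smul_right, inv_pow]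
    field_simp
    linear_combination h
  -- coordinates in `b`
  let y : Fin k → F := fun i => Cfsg.hermForm n F q v (b i)
  let y' : Fin k → F := fun i => l⁻¹ * c (Fin.castSucc i)
  have ey : ∑ i, y i • b i = w := rfl
  have ey' : ∑ i, y' i • b i = l⁻¹ • w' := by
    simp only [y', hw'def, Finset.smul_sum, smul_smul]
  have ny : Cfsg.hermForm k F q y y = -ν := by
    rw [← hw, ← ey]; exact (Unitary.Orthonormal.inner_sum hF H hb y y).symm
  have ny' : Cfsg.hermForm k F q y' y' = -ν := by
    rw [← hu, ← ey']; exact (Unitary.Orthonormal.inner_sum hF H hb y' y').symm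
  have Hk := hermForm_isHerm hF k
  have hy0 : y ≠ 0 := fun h => hx (by rw [h, Hk.zero_left] at ny; exact neg_eq_zero.1 ny.symm)
  have hy0' : y' ≠ 0 := fun h => hx (by rw [h, Hk.zero_left] at ny'; exact neg_eq_zero.1 ny'.symm)
  obtain ⟨γ, hγ⟩ := exists_norm_eq hF (Hk.self_fixed y')
  rw [ny'] at hγ
  have hγ0 : γ ≠ 0 := fun h => hx (by
    rw [h, zero_pow (Nat.succ_ne_zero q)] at hγ; exact neg_eq_zero.1 hγ.symm)
  have hz : Unitary.Orthonormal (Cfsg.hermForm k F q) (fun _ : Fin 1 => γ⁻¹ • y') := by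
    refine ⟨fun _ => ?_, fun i j h => absurd (Subsingleton.elim i j) h⟩
    rw [Hk.smul_left, Hk.smul_right, ny', ← mul_assoc, ← pow_succ', inv_pow, hγ,
      inv_mul_cancel₀ (neg_ne_zero.2 hx)]
  obtain ⟨e', he', he'y⟩ := exists_orthonormal_step hF Hk (hermForm_nondeg hF k) hz
    (by rw [Module.finrank_fin_fun]; omega)
  obtain ⟨g, hg⟩ := exists_su_witt hF (u := fun _ : Fin 1 => y) (w := fun _ => y')
    (linearIndependent_unique_iff.2 hy0) (linearIndependent_unique_iff.2 hy0')
    (fun _ _ => by rw [ny, ny']) he' (fun _ => by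
      have h := he'y 0
      rw [Hk.smul_left] at h
      exact (mul_eq_zero.1 h).resolve_left (inv_ne_zero hγ0))
  obtain ⟨G, hGM, hG, hGb, hGz⟩ := exists_lift hF hk hb hM g
  have h1 := centres_conj hGM hG hv
  rw [← wPart_add_pPart (q := q) (b := b) v, Matrix.mulVec_add, hGz _ hxb, ← hxdef, ← hwdef,
    ← ey, hGb, show suAct g y = y' from hg 0, ey'] at h1
  have h2 := centres_smul hF h1 l
  rwa [smul_add, smul_inv_smul₀ hl0] at h2

end Growth

/-- Two elements whose group has every isotropic vector as a centre. -/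
theorem psu_two_gen_of_full (hF : Fintype.card F = q ^ 2) (hn : 4 ≤ n ∨ (n = 3 ∧ 3 ≤ q) ∨ n ≤ 2)
    {A B : Matrix.GeneralLinearGroup (Fin n) F} (hA : A ∈ suGL n F q) (hB : B ∈ suGL n F q)
    {b : Fin n → (Fin n → F)} (hb : Unitary.Orthonormal (Cfsg.hermForm n F q) b)
    (hfull : Full q (Subgroup.closure {A, B}) b) :
    ∃ a b : Cfsg.PSU n F q, Subgroup.closure ({a, b} : Set (Cfsg.PSU n F q)) = ⊤ := by
  let f := (Cfsg.GU n F q).subtype.comp (suToGU n F q)
  have H := hermForm_isHerm hF n
  have hle : suGL n F q ≤ Subgroup.closure {A, B} := by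
    refine le_of_centres hF hn fun v hv => hfull v ?_ hv
    rw [hb.eq_sum_of_card H (by simp) v]
    exact Submodule.sum_mem _ fun i _ => Submodule.smul_mem _ _ (Submodule.subset_span ⟨i, rfl⟩)
  obtain ⟨a, rfl⟩ := exists_su_of_mem hA
  obtain ⟨b', rfl⟩ := exists_su_of_mem hB
  have hinj : Function.Injective f := fun s t h => Subtype.ext (Subtype.ext
    (congrArg (fun g : Matrix.GeneralLinearGroup (Fin n) F => (g : Matrix (Fin n) (Fin n) F)) h))
  have htop : Subgroup.closure ({a, b'} : Set (Cfsg.SU n F q)) = ⊤ := by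
    apply Subgroup.map_injective hinj
    refine le_antisymm (Subgroup.map_mono le_top) ?_
    rw [MonoidHom.map_closure, Set.image_pair]
    rintro _ ⟨s, -, rfl⟩
    exact hle (suToGU_mem_suGL s)
  refine ⟨QuotientGroup.mk' _ a, QuotientGroup.mk' _ b', ?_⟩
  rw [← Set.image_pair, ← MonoidHom.map_closure, htop,
    Subgroup.map_top_of_surjective _ (QuotientGroup.mk'_surjective _)]

end Cfsg.Agent.UnitaryTwoGen
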