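import Cfsg.Agent.Lib.UnitaryTwoGen.Chain

/-!
# Two generators of `PSU_n(q)`, `n ≥ 4`, `q ≥ 3`

* `exists_hyp`, `exists_hyps` : hyperbolic pairs
* `exists_fixed_gen` : an element whose norm generates the fixed field
* `psu_two_gen_four` : a transvection times a torus element, and the shift of a chain
-/

set_option autoImplicit false
set_option linter.unusedSectionVars false

namespace Cfsg.Agent.UnitaryTwoGen

open scoped Matrix
open Cfsg.Agent.Unitary

variable {F : Type*} [Field F] [Fintype F] {q n : ℕ}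

/-- A hyperbolic pair from two orthonormal vectors. -/
theorem exists_hyp (hF : Fintype.card F = q ^ 2) {a a' : Fin n → F}
    (ha : Cfsg.hermForm n F q a a = 1) (ha' : Cfsg.hermForm n F q a' a' = 1)
    (haa : Cfsg.hermForm n F q a a' = 0) :
    ∃ r s : Fin n → F, Cfsg.hermForm n F q r r = 0 ∧ Cfsg.hermForm n F q s s = 0 ∧
      Cfsg.hermForm n F q r s = 1 ∧
      ∀ z : Fin n → F, Cfsg.hermForm n F q z a = 0 → Cfsg.hermForm n F q z a' = 0 →
        Cfsg.hermForm n F q z r = 0 ∧ Cfsg.hermForm n F q z s = 0 := by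
  have H := hermForm_isHerm hF n
  obtain ⟨ε, hε⟩ := exists_eps hF
  obtain ⟨l, hl⟩ := exists_trace_eq hF (c := (-1 : F)) (by rw [neg_pow_q hF, one_pow])
  have ha'a : Cfsg.hermForm n F q a' a = 0 := (H.eq_zero_symm hF).1 haa
  have hrr : Cfsg.hermForm n F q (a + ε • a') (a + ε • a') = 0 := by
    simp only [H.add_left, H.add_right hF, H.smul_left, H.smul_right, ha, ha', haa, ha'a]
    linear_combination hε
  refine ⟨a + ε • a', a + l • (a + ε • a'), hrr, ?_, ?_, fun z hz hz' => ?_⟩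
  · simp only [H.add_left, H.add_right hF, H.smul_left, H.smul_right, ha, ha', haa, ha'a] at hrr ⊢
    linear_combination hl + (l * l ^ q) * hrr
  · simp only [H.add_left, H.add_right hF, H.smul_left, H.smul_right, ha, ha', haa, ha'a] at hrr ⊢
    linear_combination l ^ q * hrr
  · simp [H.add_right hF, H.smul_right, hz, hz']

/-- Two orthogonal hyperbolic pairs. -/
theorem exists_hyps (hF : Fintype.card F = q ^ 2) (hn : 4 ≤ n) :
    ∃ r₁ s₁ r₂ s₂ : Fin n → F,
      (Cfsg.hermForm n F q r₁ r₁ = 0 ∧ Cfsg.hermForm n F q s₁ s₁ = 0 ∧ Cfsg.hermForm n F q r₁ s₁ = 1) ∧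
      (Cfsg.hermForm n F q r₂ r₂ = 0 ∧ Cfsg.hermForm n F q s₂ s₂ = 0 ∧ Cfsg.hermForm n F q r₂ s₂ = 1) ∧
      Cfsg.hermForm n F q r₂ r₁ = 0 ∧ Cfsg.hermForm n F q r₂ s₁ = 0 ∧
      Cfsg.hermForm n F q s₂ r₁ = 0 ∧ Cfsg.hermForm n F q s₂ s₁ = 0 := by
  have H := hermForm_isHerm hF n
  have o := single_orthonormal hF n
  have ne : ∀ i j : Fin 4, i ≠ j → Fin.castLE hn i ≠ Fin.castLE hn j := fun i j h e =>
    h (Fin.castLE_injective hn e)
  obtain ⟨r₁, s₁, h1, h2, h3, h4⟩ := exists_hyp hF (o.1 (Fin.castLE hn 0)) (o.1 (Fin.castLE hn 1))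
    (o.2 (ne 0 1 (by decide)))
  obtain ⟨r₂, s₂, h1', h2', h3', h4'⟩ := exists_hyp hF (o.1 (Fin.castLE hn 2)) (o.1 (Fin.castLE hn 3))
    (o.2 (ne 2 3 (by decide)))
  have p0 := h4' _ (o.2 (ne 0 2 (by decide))) (o.2 (ne 0 3 (by decide)))
  have p1 := h4' _ (o.2 (ne 1 2 (by decide))) (o.2 (ne 1 3 (by decide)))
  have q2 := h4 r₂ ((H.eq_zero_symm hF).1 p0.1) ((H.eq_zero_symm hF).1 p1.1)
  have q3 := h4 s₂ ((H.eq_zero_symm hF).1 p0.2) ((H.eq_zero_symm hF).1 p1.2)
  exact ⟨r₁, s₁, r₂, s₂, ⟨h1, h2, h3⟩, ⟨h1', h2', h3'⟩, q2.1, q2.2, q3.1, q3.2⟩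

/-- An element whose norm generates the multiplicative group of the fixed field. -/
theorem exists_fixed_gen (hF : Fintype.card F = q ^ 2) :
    ∃ ζ : F, orderOf ζ = q ^ 2 - 1 ∧ ζ ≠ 0 ∧
      ∀ t : F, t ^ q = t → t = 0 ∨ ∃ i : ℕ, t = (ζ ^ (q + 1)) ^ i := by
  obtain ⟨g, hg⟩ := IsCyclic.exists_monoid_generator (α := Fˣ)
  have ho : orderOf g = q ^ 2 - 1 := by
    rw [← card_units hF, orderOf_eq_card_of_forall_mem_powers hg]
  have hq := two_le_q hF
  refine ⟨g, by rw [orderOf_units, ho], g.ne_zero, fun t ht => ?_⟩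
  by_cases h0 : t = 0
  · exact Or.inl h0
  obtain ⟨k, hk⟩ := Submonoid.mem_powers_iff _ _ |>.1 (hg (Units.mk0 t h0))
  have h1 : g ^ (k * (q - 1)) = 1 := by
    refine Units.ext ?_
    rw [pow_mul, hk, Units.val_pow_eq_pow_val, Units.val_mk0, Units.val_one]
    exact (fixed_iff hF h0).1 ht
  have h2 : (q + 1) * (q - 1) ∣ k * (q - 1) := by
    have h3 := orderOf_dvd_of_pow_eq_one h1
    rwa [ho, show q ^ 2 - 1 = (q + 1) * (q - 1) by simpa using Nat.sq_sub_sq q 1] at h3
  obtain ⟨i, hi⟩ := Nat.dvd_of_mul_dvd_mul_right (by omega) h2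
  refine Or.inr ⟨i, ?_⟩
  rw [← pow_mul, ← hi, ← Units.val_pow_eq_pow_val, hk, Units.val_mk0]

/-- Every fixed element is a difference of two squares of fixed elements. -/
theorem exists_sq_sub (hF : Fintype.card F = q ^ 2) {t : F} (ht : t ^ q = t) :
    ∃ a b : F, a ^ q = a ∧ b ^ q = b ∧ t = a * a - b * b := by
  by_cases h2 : (2 : F) = 0
  · obtain ⟨s, hs⟩ := FiniteField.isSquare_of_char_two
      (CharP.ringChar_of_prime_eq_zero Nat.prime_two (by exact_mod_cast h2)) t
    refine ⟨s, 0, ?_, zero_pow_q hF, by rw [hs]; ring⟩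
    have h : (s ^ q - s) * (s ^ q - s) = 0 := by
      have : s ^ q * s ^ q = s * s := by rw [← mul_pow, ← hs, ht]
      linear_combination this - (s ^ q * s - s * s) * h2
    exact sub_eq_zero.1 (mul_self_eq_zero.1 h)
  · refine ⟨(t + 1) / 2, (t - 1) / 2, ?_, ?_, by field_simp; ring⟩
    · rw [div_pow, add_pow_q hF, ht, one_pow,
        show (2 : F) ^ q = 2 by rw [← one_add_one_eq_two, add_pow_q hF, one_pow]]
    · rw [div_pow, sub_pow_q hF, ht, one_pow,
        show (2 : F) ^ q = 2 by rw [← one_add_one_eq_two, add_pow_q hF, one_pow]]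

/-- A parameter of nonzero trace and norm different from one. -/
theorem exists_param (hF : Fintype.card F = q ^ 2) (hq : 3 ≤ q) :
    ∃ x : F, x + x ^ q ≠ 0 ∧ x ^ (q + 1) ≠ 1 := by
  by_contra hc
  simp only [not_exists, not_and, not_not] at hc
  classical
  have hu : (Finset.univ : Finset F) ⊆ (Finset.univ.filter fun x => x + x ^ q = 0) ∪
      (Finset.univ.filter fun x => x ^ (q + 1) = 1) := by
    intro x _
    by_cases h : x + x ^ q = 0
    · exact Finset.mem_union_left _ (by simp [h])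
    · exact Finset.mem_union_right _ (by simp [hc x h])
  have h1 := (Finset.card_le_card hu).trans (Finset.card_union_le _ _)
  have e1 := card_trace_zero hF
  have e2 := card_norm_one hF
  rw [Nat.card_eq_fintype_card, Fintype.card_subtype] at e1 e2
  rw [Finset.card_univ, hF, e1, e2] at h1
  have : q * 3 ≤ q ^ 2 := by rw [sq]; exact Nat.mul_le_mul_left q hq
  omega

theorem psu_two_gen_four (hF : Fintype.card F = q ^ 2) (hn : 4 ≤ n) (hq : 3 ≤ q) :
    ∃ a b : Cfsg.PSU n F q, Subgroup.closure ({a, b} : Set (Cfsg.PSU n F q)) = ⊤ := by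
  have H := hermForm_isHerm hF n
  obtain ⟨r₁, s₁, r₂, s₂, ⟨r11, s11, rs1⟩, ⟨r22, s22, rs2⟩, r21, r2s1, s2r1, s21⟩ := exists_hyps hF hn
  obtain ⟨x, hx, hx'⟩ := exists_param hF hq
  have sr1 : Cfsg.hermForm n F q s₁ r₁ = 1 := by rw [H.conj_symm r₁ s₁, rs1, one_pow]
  have sr2 : Cfsg.hermForm n F q s₂ r₂ = 1 := by rw [H.conj_symm r₂ s₂, rs2, one_pow]
  have r12 : Cfsg.hermForm n F q r₁ r₂ = 0 := (H.eq_zero_symm hF).1 r21
  have r1s2 : Cfsg.hermForm n F q r₁ s₂ = 0 := (H.eq_zero_symm hF).1 s2r1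
  have s1r2 : Cfsg.hermForm n F q s₁ r₂ = 0 := (H.eq_zero_symm hF).1 r2s1
  have s12 : Cfsg.hermForm n F q s₁ s₂ = 0 := (H.eq_zero_symm hF).1 s21
  have xqq := pow_q_pow_q hF x
  set t := x + x ^ q with ht
  set m := 1 - x ^ (q + 1) with hm
  have hm0 : m ≠ 0 := sub_ne_zero.2 (Ne.symm hx')
  have hmq : m ^ q = m := by rw [hm, sub_pow_q hF, one_pow, pow_q_succ_fixed hF]
  set u₂ := r₁ + x ^ q • s₁ + r₂ - x • s₂ with hu₂
  set u₃ := x ^ q • r₁ + m • s₂ with hu₃
  let u : ℕ → (Fin n → F) := fun i => if i = 0 then r₁ else if i = 1 then s₁ else if i = 2 then u₂ else u₃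
  have u0 : u 0 = r₁ := rfl
  have u1 : u 1 = s₁ := rfl
  have u2 : u 2 = u₂ := rfl
  have u3 : u 3 = u₃ := rfl
  have hy : Cfsg.hermForm n F q (r₂ + x ^ q • s₂) (r₂ + x ^ q • s₂) = t := by
    simp [H.add_left, H.add_right hF, H.smul_left, H.smul_right, r22, s22, rs2, sr2, xqq, ht]
  have hc : Chain q 4 u := by
    refine ⟨fun i hi => ?_, fun i j hi hj => ?_, fun k h2 hk => ?_⟩
    · interval_cases i
      · exact r11
      · exact s11
      · rw [u2, hu₂]
        simp [H.add_left, H.add_right hF, H.sub_left, H.sub_right hF, H.smul_left, H.smul_right,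
          r11, s11, rs1, sr1, r22, s22, rs2, sr2, r21, r2s1, s2r1, s21, r12, r1s2, s1r2, s12, xqq]
      · rw [u3, hu₃]
        simp [H.add_left, H.add_right hF, H.smul_left, H.smul_right, r11, s22, r1s2, s2r1]
    · have e : (i = 0 ∨ i = 1 ∨ i = 2) ∧ (j = 0 ∨ j = 1 ∨ j = 2) := by omega
      rcases e with ⟨rfl | rfl | rfl, rfl | rfl | rfl⟩ <;>
        simp [u0, u1, u2, u3, hu₂, hu₃, H.add_left, H.add_right hF, H.sub_left, H.sub_right hF,
          H.smul_left, H.smul_right, r11, s11, rs1, sr1, r22, s22, rs2, sr2, r21, r2s1, s2r1, s21,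
          r12, r1s2, s1r2, s12, xqq, hmq] <;>
        ring
    · obtain ⟨b2, hb2, hb2s⟩ := exists_pair_basis hF r11 s11 (by rw [rs1]; exact one_ne_zero)
      have sp2 : Submodule.span F (Set.range b2) = spn u 2 := by
        rw [hb2s, spn]
        congr 1
        ext z
        constructor
        · rintro (rfl | rfl)
          · exact ⟨0, rfl⟩
          · exact ⟨1, rfl⟩
        · rintro ⟨i, rfl⟩
          fin_cases i
          · exact Or.inl rfl
          · exact Or.inr rfl
      have m0 : ∀ k, 2 ≤ k → r₁ ∈ spn u k := fun k h => u0 ▸ mem_spn u (by omega)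
      have m1 : ∀ k, 2 ≤ k → s₁ ∈ spn u k := fun k h => u1 ▸ mem_spn u (by omega)
      have perp2 : ∀ v : Fin n → F, Cfsg.hermForm n F q v r₁ = 0 → Cfsg.hermForm n F q v s₁ = 0 →
          ∀ z ∈ spn u 2, Cfsg.hermForm n F q v z = 0 := by
        intro v h0 h1 z hz
        rw [← sp2, hb2s, Submodule.mem_span_pair] at hz
        obtain ⟨α, β, rfl⟩ := hz
        simp [H.add_right hF, H.smul_right, h0, h1]
      obtain ⟨e3, hb3, hb3s, -⟩ := exists_basis_succ hF hb2 sp2
        (w := r₁ + x ^ q • s₁) (x := r₂ - x • s₂)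
        (Submodule.add_mem _ (m0 2 le_rfl) (Submodule.smul_mem _ _ (m1 2 le_rfl)))
        (by rw [u2, hu₂]; abel)
        (perp2 _ (by simp [H.sub_left, H.smul_left, r21, s2r1]) (by simp [H.sub_left, H.smul_left, r2s1, s21]))
        (by
          simp [H.sub_left, H.sub_right hF, H.smul_left, H.smul_right, r22, s22, rs2, sr2]
          intro h
          exact hx (by linear_combination -h))
      have hw2 : r₂ - x • s₂ ∈ spn u 3 := by
        rw [show r₂ - x • s₂ = u 2 - (r₁ + x ^ q • s₁) by rw [u2, hu₂]; abel]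
        exact Submodule.sub_mem _ (mem_spn u (by omega))
          (Submodule.add_mem _ (m0 3 (by omega)) (Submodule.smul_mem _ _ (m1 3 (by omega))))
      obtain ⟨e4, hb4, hb4s, -⟩ := exists_basis_succ hF hb3 hb3s
        (w := x ^ q • r₁ - (m / t) • (r₂ - x • s₂)) (x := (m / t) • (r₂ + x ^ q • s₂))
        (Submodule.sub_mem _ (Submodule.smul_mem _ _ (m0 3 (by omega))) (Submodule.smul_mem _ _ hw2))
        (by
          rw [u3, hu₃]
          match_scalars <;> field_simp <;> simp [ht])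
        (by
          intro z hz
          rw [H.smul_left]
          suffices h : Cfsg.hermForm n F q (r₂ + x ^ q • s₂) z = 0 by rw [h, mul_zero]
          let S : Submodule F (Fin n → F) :=
            { carrier := {z | Cfsg.hermForm n F q (r₂ + x ^ q • s₂) z = 0}
              add_mem' := fun {a c} ha hc' => by
                simp only [Set.mem_ofPred_eq] at ha hc' ⊢
                rw [H.add_right hF, ha, hc', add_zero]
              zero_mem' := H.zero_right hF _
              smul_mem' := fun c a ha => by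
                simp only [Set.mem_ofPred_eq] at ha ⊢
                rw [H.smul_right, ha, mul_zero] }
          have hle : spn u 3 ≤ S := by
            rw [Submodule.span_le]
            rintro _ ⟨i, rfl⟩
            show Cfsg.hermForm n F q (r₂ + x ^ q • s₂) (u i.val) = 0
            fin_cases i <;>
              simp [u, hu₂, H.add_left, H.add_right hF, H.sub_right hF, H.smul_left, H.smul_right,
                r22, s22, rs2, sr2, r21, r2s1, s2r1, s21]
          exact hle hz)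
        (by
          rw [H.smul_left, H.smul_right, hy]
          exact mul_ne_zero (div_ne_zero hm0 hx) (mul_ne_zero (pow_ne_zero _ (div_ne_zero hm0 hx)) hx))
      obtain rfl | rfl | rfl : k = 2 ∨ k = 3 ∨ k = 4 := by omega
      · exact ⟨b2, hb2, sp2⟩
      · exact ⟨_, hb3, hb3s⟩
      · exact ⟨_, hb4, hb4s⟩
  obtain ⟨v, hv, hv'⟩ := hc.extend hF (by omega) n hn le_rfl
  obtain ⟨B, hB, hBv⟩ := hv.exists_shift hF (by omega)
  have v0 : v 0 = r₁ := (hv' 0 (by omega)).trans u0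
  have v1 : v 1 = s₁ := (hv' 1 (by omega)).trans u1
  have v3 : v 3 = u₃ := (hv' 3 (by omega)).trans u3
  -- the first generator
  obtain ⟨ζ, hord, hζ0, hgen⟩ := exists_fixed_gen hF
  obtain ⟨δ, hδ0, hδ⟩ := exists_skew hF
  have hδ' : δ + δ ^ q = 0 := by rw [hδ, add_neg_cancel]
  set ν := ζ ^ (q + 1) with hν
  have hν0 : ν ≠ 0 := pow_ne_zero _ hζ0
  have hνq : ν ^ q = ν := pow_q_succ_fixed hF ζ
  set p := m⁻¹ • r₂ with hp
  have hpp : Cfsg.hermForm n F q p p = 0 := by simp [hp, H.smul_left, H.smul_right, r22]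
  have hu3p : Cfsg.hermForm n F q u₃ p = 1 := by
    simp [hp, hu₃, H.add_left, H.smul_left, H.smul_right, r12, sr2, inv_pow, hmq, hm0]
  have hu33 : Cfsg.hermForm n F q u₃ u₃ = 0 := by simpa [u3] using hc.sing 3 (by omega)
  obtain ⟨A, hA, hAd, hAx⟩ := exists_pairScale hF hu33 hpp hu3p hν0
  obtain ⟨h, hh, hhv⟩ := exists_gl hA (by rw [hAd, hνq, div_self hν0])
  have hr1u3 : Cfsg.hermForm n F q r₁ u₃ = 0 := by
    simp [hu₃, H.add_right hF, H.smul_right, r11, r1s2]
  have hr1p : Cfsg.hermForm n F q r₁ p = 0 := by simp [hp, H.smul_right, r12]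
  have hhr : (h : Matrix (Fin n) (Fin n) F) *ᵥ r₁ = r₁ := by
    rw [hhv, hAx, hr1u3, hr1p]; simp
  have hhu3 : (h : Matrix (Fin n) (Fin n) F) *ᵥ u₃ = ν • u₃ := by
    rw [hhv, hAx, hu33, hu3p]; module
  set T := glTransvection hF r₁ r11 δ hδ' with hT
  have hTh : Commute h T := by
    refine Units.ext ?_
    have e := transvection_conj (⟨h, hh.1⟩ : Cfsg.GU n F q) r₁ δ
    simp only at e
    rw [hhr] at e
    simpa [hT, glTransvection_val] using e
  have hTq : ∀ k : ℕ, ((T ^ k : Matrix.GeneralLinearGroup (Fin n) F) : Matrix (Fin n) (Fin n) F) =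
      Cfsg.unitaryTransvection n q r₁ ((k : F) * δ) := by
    intro k
    induction k with
    | zero => simp [transvection_zero]
    | succ k ih =>
      rw [pow_succ, Units.val_mul, ih, hT, glTransvection_val, transvection_mul r₁ r11, Nat.cast_succ,
        add_one_mul]
  have hT1 : T ^ q = 1 := by
    refine Units.ext ?_
    have hq0 : (q : F) = 0 := by
      have := FiniteField.cast_card_eq_zero F
      rw [hF, Nat.cast_pow] at this
      exact pow_eq_zero_iff (two_ne_zero) |>.1 this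
    rw [hTq, hq0, zero_mul, transvection_zero, Units.val_one]
  have hhk : ∀ k : ℕ, ((h ^ k : Matrix.GeneralLinearGroup (Fin n) F) : Matrix (Fin n) (Fin n) F) *ᵥ u₃ = ν ^ k • u₃ ∧
      ∀ z, (h : Matrix (Fin n) (Fin n) F) *ᵥ z = z → ((h ^ k : Matrix.GeneralLinearGroup (Fin n) F) : Matrix (Fin n) (Fin n) F) *ᵥ z = z := by
    intro k
    induction k with
    | zero => simp
    | succ k ih =>
      refine ⟨?_, fun z hz => ?_⟩
      · rw [pow_succ', Units.val_mul, ← Matrix.mulVec_mulVec, ih.1, Matrix.mulVec_smul, hhu3, smul_smul,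
          pow_succ]
      · rw [pow_succ', Units.val_mul, ← Matrix.mulVec_mulVec, ih.2 z hz, hz]
  have hhp : (h : Matrix (Fin n) (Fin n) F) *ᵥ p = ν⁻¹ • p := by
    have e : Cfsg.hermForm n F q p u₃ = 1 := by rw [H.conj_symm u₃ p, hu3p, one_pow]
    rw [hhv, hAx, hpp, e, hνq]; module
  have hhq : h ^ q = h := by
    have hpk : ∀ k : ℕ, ((h ^ k : Matrix.GeneralLinearGroup (Fin n) F) : Matrix (Fin n) (Fin n) F) *ᵥ p = ν⁻¹ ^ k • p := by
      intro k
      induction k with
      | zero => simp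
      | succ k ih =>
        rw [pow_succ', Units.val_mul, ← Matrix.mulVec_mulVec, ih, Matrix.mulVec_smul, hhp, smul_smul,
          pow_succ]
    refine Units.ext (Matrix.ext_iff_mulVec.2 fun z => ?_)
    obtain ⟨y, hy1, hzy⟩ : ∃ y, (h : Matrix (Fin n) (Fin n) F) *ᵥ y = y ∧
        z = Cfsg.hermForm n F q z p • u₃ + Cfsg.hermForm n F q z u₃ • p + y := by
      refine ⟨z - Cfsg.hermForm n F q z p • u₃ - Cfsg.hermForm n F q z u₃ • p, ?_, by abel⟩
      have e : Cfsg.hermForm n F q p u₃ = 1 := by rw [H.conj_symm u₃ p, hu3p, one_pow]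
      rw [hhv, hAx]
      simp [H.sub_left, H.smul_left, hu33, hpp, hu3p, e]
    rw [hzy, Matrix.mulVec_add, Matrix.mulVec_add, Matrix.mulVec_smul, Matrix.mulVec_smul,
      (hhk q).1, hpk, (hhk q).2 y hy1, Matrix.mulVec_add, Matrix.mulVec_add, Matrix.mulVec_smul,
      Matrix.mulVec_smul, hhu3, hhp, hy1, hνq, inv_pow, hνq]
  set a := h * T with ha
  have hTsu : T ∈ suGL n F q := suToGU_mem_suGL _
  set M := Subgroup.closure ({a, B} : Set (Matrix.GeneralLinearGroup (Fin n) F)) with hM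
  have haM : a ∈ M := Subgroup.subset_closure (by simp)
  have hBM : B ∈ M := Subgroup.subset_closure (by simp)
  have hhM : h ∈ M := by
    have := pow_mem haM q
    rwa [ha, hTh.mul_pow, hT1, hhq, mul_one] at this
  have hTM : T ∈ M := by
    have := mul_mem (inv_mem hhM) haM
    rwa [ha, inv_mul_cancel_left] at this
  -- conjugate the torus to scale `r₁`
  have hB3 : ((B ^ 3 : Matrix.GeneralLinearGroup (Fin n) F) : Matrix (Fin n) (Fin n) F) *ᵥ r₁ = u₃ := by
    simp only [pow_succ, pow_zero, one_mul, Units.val_mul, ← Matrix.mulVec_mulVec]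
    rw [← v0, hBv 0 (by omega), hBv 1 (by omega), hBv 2 (by omega), v3]
  set g := (B ^ 3)⁻¹ * h * B ^ 3 with hg
  have hgM : g ∈ M := mul_mem (mul_mem (inv_mem (pow_mem hBM 3)) hhM) (pow_mem hBM 3)
  have hgsu : g ∈ suGL n F q := mul_mem (mul_mem (inv_mem (pow_mem hB 3)) hh) (pow_mem hB 3)
  have hgr : (g : Matrix (Fin n) (Fin n) F) *ᵥ r₁ = ν • r₁ := by
    rw [hg, Units.val_mul, Units.val_mul, ← Matrix.mulVec_mulVec, hB3, ← Matrix.mulVec_mulVec, hhu3,
      Matrix.mulVec_smul, ← hB3, Matrix.mulVec_mulVec, ← Units.val_mul, inv_mul_cancel, Units.val_one,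
      Matrix.one_mulVec]
  have hcen : r₁ ∈ centres q M := by
    refine centre_of_scaled hF r11 hgM hgsu hgr hδ0 ⟨hδ', T, hTM, glTransvection_val _ _ _ _ _⟩ ?_
    intro s hs
    obtain ⟨a', b', ha', hb', rfl⟩ := exists_sq_sub hF hs
    have key : ∀ c : F, c ^ q = c → c * c = 0 ∨ ∃ i : ℕ, c * c = (ν ^ (q + 1)) ^ i := by
      intro c hc'
      rcases hgen c hc' with rfl | ⟨i, rfl⟩
      · exact Or.inl (zero_mul 0)
      · refine Or.inr ⟨i, ?_⟩
        rw [pow_succ ν q, hνq, mul_pow]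
    exact ⟨a' * a', b' * b', rfl, key a' ha', key b' hb'⟩
  have hcs := hv.centres hBM hB hBv (v0.symm ▸ hcen)
  obtain ⟨b2, hb2, hb2s⟩ := exists_pair_basis hF r11 s11 (by rw [rs1]; exact one_ne_zero)
  have hf2 : Full q M b2 := full_pair hF hcen (v1 ▸ hcs 1 (by omega)) (by rw [rs1]; exact one_ne_zero) hb2s
  have sp2 : Submodule.span F (Set.range b2) = spn v 2 := by
    rw [hb2s, spn]
    congr 1
    ext z
    constructor
    · rintro (rfl | rfl)
      · exact ⟨0, v0⟩
      · exact ⟨1, v1⟩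
    · rintro ⟨i, rfl⟩
      fin_cases i
      · exact Or.inl v0
      · exact Or.inr v1
  obtain ⟨b, hb, -, hbf⟩ := hv.full hF hcs le_rfl (Or.inr hq) hb2 sp2 hf2 n (by omega) le_rfl
  exact psu_two_gen_of_full hF (Or.inl hn) (mul_mem hh hTsu) hB hb hbf

end Cfsg.Agent.UnitaryTwoGen
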