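import Cfsg.Agent.Lib.Unitary.MonoBase
import Cfsg.Agent.Lib.UnitaryTwoGen.Four

/-!
# Two generators of `PSU_3(q)`, `q ≥ 3`

* `IsX` : the unipotent radical of the stabiliser of an isotropic vector, in a basis
* `psu_two_gen_three` : a torus element and a unipotent times the Weyl element
-/

set_option autoImplicit false
set_option linter.unusedSectionVars false

namespace Cfsg.Agent.UnitaryTwoGen

open scoped Matrix
open Cfsg.Agent.Unitary

variable {F : Type*} [Field F] [Fintype F] {q : ℕ}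

/-- `g` fixes `r`, sends `e` to `e + y r` and `s` to `s + z r - y^q e`. -/
def IsX (q : ℕ) (r s e : Fin 3 → F) (g : Matrix.GeneralLinearGroup (Fin 3) F) (y z : F) : Prop :=
  (g : Matrix (Fin 3) (Fin 3) F) *ᵥ r = r ∧ (g : Matrix (Fin 3) (Fin 3) F) *ᵥ e = e + y • r ∧
    (g : Matrix (Fin 3) (Fin 3) F) *ᵥ s = s + z • r - y ^ q • e

theorem IsX.mul (hF : Fintype.card F = q ^ 2) {r s e : Fin 3 → F}
    {g h : Matrix.GeneralLinearGroup (Fin 3) F} {y y' z z' : F}
    (hg : IsX q r s e g y z) (hh : IsX q r s e h y' z') :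
    IsX q r s e (g * h) (y + y') (z + z' - y * y' ^ q) := by
  obtain ⟨g1, g2, g3⟩ := hg
  obtain ⟨h1, h2, h3⟩ := hh
  refine ⟨?_, ?_, ?_⟩
  · rw [Units.val_mul, ← Matrix.mulVec_mulVec, h1, g1]
  · rw [Units.val_mul, ← Matrix.mulVec_mulVec, h2, Matrix.mulVec_add, Matrix.mulVec_smul, g1, g2]
    module
  · rw [Units.val_mul, ← Matrix.mulVec_mulVec, h3, Matrix.mulVec_sub, Matrix.mulVec_add,
      Matrix.mulVec_smul, Matrix.mulVec_smul, g1, g2, g3, add_pow_q hF]
    module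

theorem IsX.inv (hF : Fintype.card F = q ^ 2) {r s e : Fin 3 → F}
    {g : Matrix.GeneralLinearGroup (Fin 3) F} {y z : F} (hg : IsX q r s e g y z) :
    IsX q r s e g⁻¹ (-y) (-z - y * y ^ q) := by
  obtain ⟨g1, g2, g3⟩ := hg
  have hback : ∀ {a b : Fin 3 → F}, (g : Matrix (Fin 3) (Fin 3) F) *ᵥ a = b →
      ((g⁻¹ : Matrix.GeneralLinearGroup (Fin 3) F) : Matrix (Fin 3) (Fin 3) F) *ᵥ b = a := fun {a b} h => by
    rw [← h, Matrix.mulVec_mulVec, ← Units.val_mul, inv_mul_cancel, Units.val_one, Matrix.one_mulVec]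
  refine ⟨hback g1, hback ?_, hback ?_⟩
  · rw [Matrix.mulVec_add, Matrix.mulVec_smul, g1, g2]; module
  · rw [Matrix.mulVec_sub, Matrix.mulVec_add, Matrix.mulVec_smul, Matrix.mulVec_smul, g1, g2, g3,
      neg_pow_q hF]
    module

/-- Conjugation by a diagonal element. -/
theorem IsX.conj (hF : Fintype.card F = q ^ 2) {r s e : Fin 3 → F}
    {g h : Matrix.GeneralLinearGroup (Fin 3) F} {y z α β : F} (hg : IsX q r s e g y z)
    (hα : α ≠ 0) (hβ : β ^ (q + 1) = 1)
    (hr : (h : Matrix (Fin 3) (Fin 3) F) *ᵥ r = α • r)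
    (hs : (h : Matrix (Fin 3) (Fin 3) F) *ᵥ s = (α ^ q)⁻¹ • s)
    (he : (h : Matrix (Fin 3) (Fin 3) F) *ᵥ e = β • e) :
    IsX q r s e (h * g * h⁻¹) (α * β⁻¹ * y) (α ^ (q + 1) * z) := by
  obtain ⟨g1, g2, g3⟩ := hg
  have hβ0 : β ≠ 0 := fun e => by simp [e] at hβ
  have hαq : α ^ q ≠ 0 := pow_ne_zero _ hα
  have hback : ∀ {a b : Fin 3 → F} {c : F}, c ≠ 0 → (h : Matrix (Fin 3) (Fin 3) F) *ᵥ a = c • b →
      ((h⁻¹ : Matrix.GeneralLinearGroup (Fin 3) F) : Matrix (Fin 3) (Fin 3) F) *ᵥ b = c⁻¹ • a := fun {a b c} hc e' => by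
    have : (h : Matrix (Fin 3) (Fin 3) F) *ᵥ (c⁻¹ • a) = b := by
      rw [Matrix.mulVec_smul, e', inv_smul_smul₀ hc]
    conv_lhs => rw [← this]
    rw [Matrix.mulVec_mulVec, ← Units.val_mul, inv_mul_cancel, Units.val_one, Matrix.one_mulVec]
  have hbq : β * β ^ q = 1 := by rw [← pow_succ', hβ]
  refine ⟨?_, ?_, ?_⟩
  · rw [Units.val_mul, Units.val_mul, ← Matrix.mulVec_mulVec, hback hα hr, ← Matrix.mulVec_mulVec,
      Matrix.mulVec_smul, g1, Matrix.mulVec_smul, hr, inv_smul_smul₀ hα]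
  · rw [Units.val_mul, Units.val_mul, ← Matrix.mulVec_mulVec, hback hβ0 he, ← Matrix.mulVec_mulVec,
      Matrix.mulVec_smul, g2, Matrix.mulVec_smul, Matrix.mulVec_add, Matrix.mulVec_smul, hr, he]
    match_scalars <;> field_simp
  · rw [Units.val_mul, Units.val_mul, ← Matrix.mulVec_mulVec, hback (inv_ne_zero hαq) hs,
      ← Matrix.mulVec_mulVec, Matrix.mulVec_smul, g3, Matrix.mulVec_smul, Matrix.mulVec_sub,
      Matrix.mulVec_add, Matrix.mulVec_smul, Matrix.mulVec_smul, hr, hs, he, inv_inv, mul_pow, mul_pow,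
      inv_pow]
    match_scalars <;> field_simp <;> try ring
    linear_combination (-(y ^ q)) * hbq

theorem psu_two_gen_three (hF : Fintype.card F = q ^ 2) (hq : 3 ≤ q) :
    ∃ a b : Cfsg.PSU 3 F q, Subgroup.closure ({a, b} : Set (Cfsg.PSU 3 F q)) = ⊤ := by
  have H := hermForm_isHerm hF 3
  have o := single_orthonormal hF 3
  obtain ⟨r, s, hr, hs, hrs, hperp⟩ := exists_hyp hF (o.1 0) (o.1 1) (o.2 (show (0 : Fin 3) ≠ 1 by decide))
  have hsr : Cfsg.hermForm 3 F q s r = 1 := by rw [H.conj_symm r s, hrs, one_pow]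
  set e : Fin 3 → F := Pi.single 2 1 with he
  have hee : Cfsg.hermForm 3 F q e e = 1 := o.1 2
  obtain ⟨her, hes⟩ := hperp e (o.2 (show (2 : Fin 3) ≠ 0 by decide)) (o.2 (show (2 : Fin 3) ≠ 1 by decide))
  have hre : Cfsg.hermForm 3 F q r e = 0 := (H.eq_zero_symm hF).1 her
  have hse : Cfsg.hermForm 3 F q s e = 0 := (H.eq_zero_symm hF).1 hes
  -- agreement on `r`, `s`, `e`
  obtain ⟨b0, hb0, hb0s⟩ := exists_pair_basis hF hr hs (by rw [hrs]; exact one_ne_zero)
  have hdec : ∀ x, x = Cfsg.hermForm 3 F q x s • r + Cfsg.hermForm 3 F q x r • s +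
      Cfsg.hermForm 3 F q x e • e := fun x => by
    have hb3 : Unitary.Orthonormal (Cfsg.hermForm 3 F q) (Fin.snoc b0 e : Fin 3 → (Fin 3 → F)) := by
      refine hb0.snoc hF hee fun i => ?_
      have : b0 i ∈ Submodule.span F ({r, s} : Set (Fin 3 → F)) := hb0s ▸ Submodule.subset_span ⟨i, rfl⟩
      obtain ⟨α, β, h⟩ := Submodule.mem_span_pair.1 this
      simp [← h, H.add_left, H.smul_left, hre, hse]
    set y := x - (Cfsg.hermForm 3 F q x s • r + Cfsg.hermForm 3 F q x r • s +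
      Cfsg.hermForm 3 F q x e • e) with hy
    have y1 : Cfsg.hermForm 3 F q y r = 0 := by simp [hy, H.sub_left, H.add_left, H.smul_left, hr, hsr, her]
    have y2 : Cfsg.hermForm 3 F q y s = 0 := by simp [hy, H.sub_left, H.add_left, H.smul_left, hs, hrs, hes]
    have y3 : Cfsg.hermForm 3 F q y e = 0 := by simp [hy, H.sub_left, H.add_left, H.smul_left, hre, hse, hee]
    have : y = 0 := by
      rw [hb3.eq_sum_of_card H (by simp) y]
      refine Finset.sum_eq_zero fun i _ => ?_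
      induction i using Fin.lastCases with
      | last => rw [Fin.snoc_last, y3, zero_smul]
      | cast i =>
        have : b0 i ∈ Submodule.span F ({r, s} : Set (Fin 3 → F)) := hb0s ▸ Submodule.subset_span ⟨i, rfl⟩
        obtain ⟨α, β, h⟩ := Submodule.mem_span_pair.1 this
        simp [← h, H.add_right hF, H.smul_right, y1, y2]
    rwa [hy, sub_eq_zero] at this
  have hext : ∀ g h : Matrix.GeneralLinearGroup (Fin 3) F,
      (g : Matrix (Fin 3) (Fin 3) F) *ᵥ r = (h : Matrix (Fin 3) (Fin 3) F) *ᵥ r →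
      (g : Matrix (Fin 3) (Fin 3) F) *ᵥ s = (h : Matrix (Fin 3) (Fin 3) F) *ᵥ s →
      (g : Matrix (Fin 3) (Fin 3) F) *ᵥ e = (h : Matrix (Fin 3) (Fin 3) F) *ᵥ e → g = h := by
    intro g h e1 e2 e3
    refine Units.ext (Matrix.ext_iff_mulVec.2 fun x => ?_)
    rw [hdec x]
    simp only [Matrix.mulVec_add, Matrix.mulVec_smul, e1, e2, e3]
  -- torus, Weyl element, unipotent
  obtain ⟨ζ, hord, hζ0, hgen⟩ := exists_fixed_gen hF
  obtain ⟨δ, hδ0, hδ⟩ := exists_skew hF
  have hδ' : δ + δ ^ q = 0 := by rw [hδ, add_neg_cancel]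
  have hδi : -δ⁻¹ + (-δ⁻¹) ^ q = 0 := by rw [neg_pow_q hF, inv_pow, hδ]; simp
  have hζq : ζ ^ q ≠ 0 := pow_ne_zero _ hζ0
  have hζqq : (ζ ^ q) ^ q = ζ := pow_q_pow_q hF ζ
  set μ := ζ ^ q / ζ with hμdef
  have hμ : μ ^ (q + 1) = 1 := by
    rw [hμdef, div_pow, div_eq_one_iff_eq (pow_ne_zero _ hζ0), pow_succ, hζqq, pow_succ, mul_comm]
  have hμ0 : μ ≠ 0 := div_ne_zero hζq hζ0
  obtain ⟨A, hA, hAd, hAx⟩ := exists_pairScale hF hr hs hrs hζ0
  obtain ⟨h0, hh0, hh0v⟩ := exists_gl (hA.mul (refl_isUnitary hF hee hμ)) (by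
    rw [Matrix.det_mul, hAd, ← glRefl_val hF hee hμ, glRefl_det hF hee hμ, hμdef]
    field_simp)
  have h0r : (h0 : Matrix (Fin 3) (Fin 3) F) *ᵥ r = ζ • r := by
    rw [hh0v, ← Matrix.mulVec_mulVec, transvection_mulVec, hre, mul_zero, zero_smul, add_zero, hAx, hr, hrs]
    module
  have h0s : (h0 : Matrix (Fin 3) (Fin 3) F) *ᵥ s = (ζ ^ q)⁻¹ • s := by
    rw [hh0v, ← Matrix.mulVec_mulVec, transvection_mulVec, hse, mul_zero, zero_smul, add_zero, hAx, hs, hsr]
    module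
  have h0e : (h0 : Matrix (Fin 3) (Fin 3) F) *ᵥ e = μ • e := by
    rw [hh0v, ← Matrix.mulVec_mulVec, transvection_mulVec, hee, mul_one, Matrix.mulVec_add,
      Matrix.mulVec_smul, hAx, her, hes]
    module
  set w := glTransvection hF r hr δ hδ' * glTransvection hF s hs (-δ⁻¹) hδi *
    glTransvection hF r hr δ hδ' with hw
  have hwsu : w ∈ suGL 3 F q :=
    mul_mem (mul_mem (suToGU_mem_suGL _) (suToGU_mem_suGL _)) (suToGU_mem_suGL _)
  have wr : (w : Matrix (Fin 3) (Fin 3) F) *ᵥ r = (-δ⁻¹) • s := by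
    rw [hw, Units.val_mul, Units.val_mul, ← Matrix.mulVec_mulVec, glTransvection_apply, hr,
      ← Matrix.mulVec_mulVec]
    simp only [mul_zero, zero_smul, add_zero, glTransvection_apply, hrs, H.add_left, H.smul_left, hr, hsr]
    match_scalars <;> field_simp <;> ring
  have ws : (w : Matrix (Fin 3) (Fin 3) F) *ᵥ s = δ • r := by
    rw [hw, Units.val_mul, Units.val_mul, ← Matrix.mulVec_mulVec, glTransvection_apply, hsr,
      ← Matrix.mulVec_mulVec]
    simp only [mul_one, glTransvection_apply, hrs, H.add_left, H.smul_left, hr, hs, hsr]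
    match_scalars <;> field_simp <;> ring
  have we : (w : Matrix (Fin 3) (Fin 3) F) *ᵥ e = e := by
    rw [hw, Units.val_mul, Units.val_mul, ← Matrix.mulVec_mulVec, glTransvection_apply, her,
      ← Matrix.mulVec_mulVec]
    simp [glTransvection_apply, her, hes]
  obtain ⟨z, hz⟩ := exists_trace_eq hF (c := (-1 : F)) (by rw [neg_pow_q hF, one_pow])
  have hXv : ∀ x, (rk q r (z • r - e) * rk q e r) *ᵥ x =
      x + Cfsg.hermForm 3 F q x e • r + Cfsg.hermForm 3 F q x r • (z • r - e) := fun x => by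
    rw [← Matrix.mulVec_mulVec, rk_mulVec, rk_mulVec, H.add_left, H.smul_left, hr, mul_zero, add_zero]
  obtain ⟨X, hXsu, hXval⟩ := exists_gl (q := q) (A := rk q r (z • r - e) * rk q e r) (fun x y => by
      rw [hXv, hXv]
      simp only [H.add_left, H.add_right hF, H.sub_left, H.sub_right hF, H.smul_left, H.smul_right,
        hr, hee, her, hre]
      rw [H.conj_symm y e, H.conj_symm y r]
      linear_combination (Cfsg.hermForm 3 F q x r * Cfsg.hermForm 3 F q y r ^ q) * hz)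
    (by rw [Matrix.det_mul, rk_det, rk_det, H.sub_left, H.smul_left, hr, her, hre]; simp)
  have hX : IsX q r s e X 1 z := by
    refine ⟨?_, ?_, ?_⟩
    · rw [hXval, hXv, hr, hre]; simp
    · rw [hXval, hXv, hee, her]; simp
    · rw [hXval, hXv, hse, hsr, one_pow]; module
  set B := X * w with hB
  have hBsu : B ∈ suGL 3 F q := mul_mem hXsu hwsu
  set M := Subgroup.closure ({h0, B} : Set (Matrix.GeneralLinearGroup (Fin 3) F)) with hM
  have h0M : h0 ∈ M := Subgroup.subset_closure (by simp)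
  have hBM : B ∈ M := Subgroup.subset_closure (by simp)
  -- the Weyl conjugate of the torus
  set h' := w * h0 * w⁻¹ with hh'
  have hpull : ∀ (a : Fin 3 → F) (c : F), (h0 : Matrix (Fin 3) (Fin 3) F) *ᵥ a = c • a →
      (h' : Matrix (Fin 3) (Fin 3) F) *ᵥ ((w : Matrix (Fin 3) (Fin 3) F) *ᵥ a) =
        c • ((w : Matrix (Fin 3) (Fin 3) F) *ᵥ a) := fun a c ha => by
    rw [hh', Matrix.mulVec_mulVec, ← Units.val_mul, inv_mul_cancel_right, Units.val_mul,
      ← Matrix.mulVec_mulVec, ha, Matrix.mulVec_smul]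
  have h'r : (h' : Matrix (Fin 3) (Fin 3) F) *ᵥ r = (ζ ^ q)⁻¹ • r := by
    have := hpull s _ h0s
    rw [ws, Matrix.mulVec_smul, smul_comm] at this
    exact smul_right_injective _ hδ0 this
  have h's : (h' : Matrix (Fin 3) (Fin 3) F) *ᵥ s = (((ζ ^ q)⁻¹) ^ q)⁻¹ • s := by
    have := hpull r _ h0r
    rw [wr, Matrix.mulVec_smul, smul_comm] at this
    rw [inv_pow, hζqq, inv_inv]
    exact smul_right_injective _ (neg_ne_zero.2 (inv_ne_zero hδ0)) this
  have h'e : (h' : Matrix (Fin 3) (Fin 3) F) *ᵥ e = μ • e := by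
    have := hpull e _ h0e
    rwa [we] at this
  have hpk : ∀ (k : ℕ) (a : Fin 3 → F) (c : F), (h0 : Matrix (Fin 3) (Fin 3) F) *ᵥ a = c • a →
      ((h0 ^ k : Matrix.GeneralLinearGroup (Fin 3) F) : Matrix (Fin 3) (Fin 3) F) *ᵥ a = c ^ k • a := by
    intro k a c ha
    induction k with
    | zero => simp
    | succ k ih => rw [pow_succ', Units.val_mul, ← Matrix.mulVec_mulVec, ih, Matrix.mulVec_smul, ha,
        smul_smul, pow_succ]
  have hinv : h'⁻¹ = h0 ^ q := by
    rw [inv_eq_iff_mul_eq_one]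
    refine hext _ _ ?_ ?_ ?_
    · rw [Units.val_mul, ← Matrix.mulVec_mulVec, hpk q r _ h0r, Matrix.mulVec_smul, h'r, smul_smul,
        mul_inv_cancel₀ hζq]
      simp
    · rw [Units.val_mul, ← Matrix.mulVec_mulVec, hpk q s _ h0s, Matrix.mulVec_smul, h's, smul_smul,
        mul_inv_cancel₀ (pow_ne_zero _ (inv_ne_zero hζq))]
      simp
    · rw [Units.val_mul, ← Matrix.mulVec_mulVec, hpk q e _ h0e, Matrix.mulVec_smul, h'e, smul_smul,
        ← pow_succ, hμ]
      simp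
  set E := X * (h' * X⁻¹ * h'⁻¹) with hE
  have hEM : E ∈ M := by
    have e1 : E = B * h0 * B⁻¹ * h0 ^ q := by
      rw [hE, ← hinv, hB, hh']; group
    rw [e1]
    exact mul_mem (mul_mem (mul_mem hBM h0M) (inv_mem hBM)) (pow_mem h0M q)
  have hEX := hX.mul hF ((hX.inv hF).conj hF (inv_ne_zero hζq) hμ h'r h's h'e)
  rw [← hE] at hEX
  set Y := 1 + (ζ ^ q)⁻¹ * μ⁻¹ * -1 with hY
  have hcount : 2 * q - 1 < q ^ 2 - 1 := by
    have : q * 3 ≤ q ^ 2 := by rw [sq]; exact Nat.mul_le_mul_left q hq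
    omega
  have hY0 : Y ≠ 0 := by
    intro h
    have h1 : ζ ^ q * μ = 1 := by
      rw [hY] at h
      field_simp at h
      linear_combination h
    have h2 : ζ ^ (2 * q - 1) = 1 := by
      apply mul_right_cancel₀ hζ0
      rw [← pow_succ, show 2 * q - 1 + 1 = q + q by omega, pow_add, one_mul]
      rw [hμdef] at h1
      field_simp at h1
      linear_combination h1
    have := Nat.le_of_dvd (by omega) (orderOf_dvd_of_pow_eq_one h2)
    rw [hord] at this
    omega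
  set L := ζ * μ⁻¹ with hL
  have hL0 : L ^ q ≠ L := by
    intro h
    have h1 : ζ ^ (3 * (q - 1)) = 1 := by
      have h2 : ζ ^ q * ζ ^ q * ζ ^ q = ζ * ζ * ζ := by
        rw [hL, hμdef, mul_pow, inv_pow, div_pow, hζqq] at h
        field_simp at h
        linear_combination h
      apply mul_right_cancel₀ (pow_ne_zero 3 hζ0)
      rw [one_mul, ← pow_add, show 3 * (q - 1) + 3 = q + q + q by omega, pow_add, pow_add, h2]
      ring
    have h3 := orderOf_dvd_of_pow_eq_one h1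
    rw [hord, show q ^ 2 - 1 = (q + 1) * (q - 1) by simpa using Nat.sq_sub_sq q 1] at h3
    have := Nat.le_of_dvd (by omega) (Nat.dvd_of_mul_dvd_mul_right (by omega) h3)
    omega
  set E' := h0 * E * h0⁻¹ with hE'
  have hE'M : E' ∈ M := mul_mem (mul_mem h0M hEM) (inv_mem h0M)
  have hE'X := hEX.conj hF hζ0 hμ h0r h0s h0e
  rw [← hE', ← hL] at hE'X
  set K := E * E' * (E' * E)⁻¹ with hK
  have hKM : K ∈ M := mul_mem (mul_mem hEM hE'M) (inv_mem (mul_mem hE'M hEM))
  have hKX := (hEX.mul hF hE'X).mul hF ((hE'X.mul hF hEX).inv hF)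
  rw [← hK] at hKX
  clear_value Y L
  set c := Y * Y ^ q * (L - L ^ q) with hc
  have hKc : IsX q r s e K 0 c := by
    convert hKX using 1
    · ring
    · rw [hc, neg_pow_q hF, add_pow_q hF, mul_pow L Y]; ring
  have hc0 : c ≠ 0 := mul_ne_zero (mul_ne_zero hY0 (pow_ne_zero _ hY0)) (sub_ne_zero.2 hL0.symm)
  have hcs : c + c ^ q = 0 := by
    rw [hc, mul_pow (Y * Y ^ q), mul_pow Y, sub_pow_q hF, pow_q_pow_q hF, pow_q_pow_q hF]; ring
  have hKT : K = glTransvection hF r hr c hcs := by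
    refine hext _ _ ?_ ?_ ?_
    · rw [hKc.1, glTransvection_apply, hr]; simp
    · rw [hKc.2.2, glTransvection_apply, hsr, zero_pow_q hF]; simp
    · rw [hKc.2.1, glTransvection_apply, her]; simp
  have hcen : r ∈ centres q M := by
    refine centre_of_scaled hF hr h0M hh0 h0r hc0 ⟨hcs, K, hKM, by rw [hKT]; rfl⟩ ?_
    intro t ht
    exact ⟨t, 0, (sub_zero t).symm, hgen t ht, Or.inl rfl⟩
  set v := s + z • r - e with hv
  have hBr : (B : Matrix (Fin 3) (Fin 3) F) *ᵥ r = (-δ⁻¹) • v := by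
    rw [hB, Units.val_mul, ← Matrix.mulVec_mulVec, wr, Matrix.mulVec_smul, hX.2.2, one_pow, one_smul, hv]
  have hvC : v ∈ centres q M := by
    have := centres_smul hF (centres_conj hBM hBsu hcen) (-δ⁻¹)⁻¹
    rwa [hBr, inv_smul_smul₀ (neg_ne_zero.2 (inv_ne_zero hδ0))] at this
  have hrv : Cfsg.hermForm 3 F q r v = 1 := by
    simp [hv, H.sub_right hF, H.add_right hF, H.smul_right, hrs, hr, hre]
  obtain ⟨b2, hb2, hb2s⟩ := exists_pair_basis hF hr hvC.1 (by rw [hrv]; exact one_ne_zero)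
  have hf2 := full_pair hF hcen hvC (by rw [hrv]; exact one_ne_zero) hb2s
  obtain ⟨e3, he3, he3b⟩ := exists_orthonormal_step hF H (hermForm_nondeg hF 3) hb2
    (by rw [Module.finrank_fin_fun]; omega)
  set v2 := (B : Matrix (Fin 3) (Fin 3) F) *ᵥ v with hv2
  have hb3 := hb2.snoc hF he3 he3b
  obtain ⟨a, ha⟩ : ∃ a : F, pPart q b2 v2 = a • e3 := by
    refine ⟨Cfsg.hermForm 3 F q (pPart q b2 v2) e3, ?_⟩
    conv_lhs => rw [hb3.eq_sum_of_card H (by simp) (pPart q b2 v2)]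
    rw [Fin.sum_univ_castSucc]
    simp only [Fin.snoc_castSucc, Fin.snoc_last, pPart_perp hF hb2, zero_smul, Finset.sum_const_zero, zero_add]
  have hv2e : v2 = (δ - 1) • r + (-(z * δ⁻¹)) • v - e := by
    rw [hv2, hv, hB, Units.val_mul, ← Matrix.mulVec_mulVec, Matrix.mulVec_sub, Matrix.mulVec_add,
      Matrix.mulVec_smul, ws, wr, we, Matrix.mulVec_sub, Matrix.mulVec_add, Matrix.mulVec_smul,
      Matrix.mulVec_smul, Matrix.mulVec_smul, hX.1, hX.2.1, hX.2.2]
    simp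
    module
  have ha0 : a ≠ 0 := by
    intro h
    have e1 := wPart_add_pPart (q := q) (b := b2) v2
    rw [ha, h, zero_smul, add_zero] at e1
    have h1 : v2 ∈ Submodule.span F ({r, v} : Set (Fin 3 → F)) := hb2s ▸ e1 ▸ wPart_mem v2
    have h2 : e ∈ Submodule.span F ({r, v} : Set (Fin 3 → F)) := by
      rw [show e = (δ - 1) • r + (-(z * δ⁻¹)) • v - v2 by rw [hv2e]; abel]
      refine Submodule.sub_mem _ (Submodule.add_mem _ ?_ ?_) h1 <;>
        exact Submodule.smul_mem _ _ (Submodule.subset_span (by simp))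
    obtain ⟨α, β, h3⟩ := Submodule.mem_span_pair.1 h2
    have hvr : Cfsg.hermForm 3 F q v r = 1 := by rw [H.conj_symm r v, hrv, one_pow]
    have h4 : β = 0 := by
      have := her
      rw [← h3, H.add_left, H.smul_left, H.smul_left, hr, hvr] at this
      linear_combination this
    rw [h4, zero_smul, add_zero] at h3
    have := hee
    rw [← h3, H.smul_left, H.smul_right, hr] at this
    simp at this
  have hx : Cfsg.hermForm 3 F q (pPart q b2 v2) (pPart q b2 v2) ≠ 0 := by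
    rw [ha, H.smul_left, H.smul_right, he3, mul_one]
    exact mul_ne_zero ha0 (pow_ne_zero _ ha0)
  have hfull := full_snoc hF le_rfl (Or.inr (Or.inr le_rfl)) hb2 hf2 (centres_conj hBM hBsu hvC) hx
    (e := e3) (Submodule.mem_span_singleton.2 ⟨a⁻¹, by rw [ha, inv_smul_smul₀ ha0]⟩)
  exact psu_two_gen_of_full hF (Or.inr (Or.inl ⟨rfl, hq⟩)) hh0 hBsu hb3 hfull

end Cfsg.Agent.UnitaryTwoGen
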