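import Cfsg.Agent.Lib.Unitary.MonoBase
import Cfsg.Agent.Lib.UnitaryTwoGen.Four

/-!
# Two generators of `PSU_n(2)`, `n ≥ 4`

* `full_four_two` : a nondegenerate 4-space is full, given a full plane section and two more centres
* `psu_two_gen_two` : a transvection times an element of order three, and the shift of a chain
-/

set_option autoImplicit false
set_option linter.unusedSectionVars false

namespace Cfsg.Agent.UnitaryTwoGen

open scoped Matrix
open Cfsg.Agent.Unitary

variable {F : Type*} [Field F] [Fintype F] {n : ℕ}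

section FourElements

variable (hF : Fintype.card F = 2 ^ 2)
include hF

theorem two_eq_zero : (2 : F) = 0 := by
  have h := FiniteField.cast_card_eq_zero F
  rw [hF, Nat.cast_pow] at h
  exact_mod_cast pow_eq_zero_iff (two_ne_zero) |>.1 h

theorem cube_eq_one {x : F} (hx : x ≠ 0) : x ^ 3 = 1 := by
  have := FiniteField.pow_card_sub_one_eq_one x hx
  rwa [hF] at this

theorem exists_omega : ∃ w : F, w ^ 2 + w + 1 = 0 := by
  obtain ⟨a, ha, hord⟩ := exists_norm_one_gen hF
  refine ⟨a, ?_⟩
  have ha1 : a - 1 ≠ 0 := sub_ne_zero.2 fun h => by rw [h, orderOf_one] at hord; omega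
  exact (mul_eq_zero.1 (show (a - 1) * (a ^ 2 + a + 1) = 0 by linear_combination ha)).resolve_left ha1

set_option maxHeartbeats 1600000 in
/-- A frame is full once the coordinate hyperplane and two further centres are. -/
theorem full_four_two {M : Subgroup (Matrix.GeneralLinearGroup (Fin n) F)} {a b c d : Fin n → F}
    (ha : Cfsg.hermForm n F 2 a a = 1) (hb : Cfsg.hermForm n F 2 b b = 1)
    (hc : Cfsg.hermForm n F 2 c c = 1) (hd : Cfsg.hermForm n F 2 d d = 1)
    (hab : Cfsg.hermForm n F 2 a b = 0) (hac : Cfsg.hermForm n F 2 a c = 0)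
    (had : Cfsg.hermForm n F 2 a d = 0) (hbc : Cfsg.hermForm n F 2 b c = 0)
    (hbd : Cfsg.hermForm n F 2 b d = 0) (hcd : Cfsg.hermForm n F 2 c d = 0) {w : F} (hw : w ^ 2 + w + 1 = 0)
    (h3 : ∀ v ∈ Submodule.span F ({a, b, c} : Set (Fin n → F)), Cfsg.hermForm n F 2 v v = 0 → v ∈ centres 2 M)
    (h4 : a + w • d ∈ centres 2 M) (h5 : w ^ 2 • a + w • b + c + w • d ∈ centres 2 M) :
    ∀ l₀ l₁ l₂ l₃ : F, Cfsg.hermForm n F 2 (l₀ • a + l₁ • b + l₂ • c + l₃ • d) (l₀ • a + l₁ • b + l₂ • c + l₃ • d) = 0 →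
      l₀ • a + l₁ • b + l₂ • c + l₃ • d ∈ centres 2 M := by
  have H := hermForm_isHerm hF n
  have h2 := two_eq_zero hF
  have hba := (H.eq_zero_symm hF).1 hab
  have hca := (H.eq_zero_symm hF).1 hac
  have hda := (H.eq_zero_symm hF).1 had
  have hcb := (H.eq_zero_symm hF).1 hbc
  have hdb := (H.eq_zero_symm hF).1 hbd
  have hdc := (H.eq_zero_symm hF).1 hcd
  have step : ∀ {u v : Fin n → F}, u ∈ centres 2 M → v ∈ centres 2 M →
      v + Cfsg.hermForm n F 2 v u • u ∈ centres 2 M := fun {u v} hu hv => by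
    have := centres_step hF hu hv (c := (1 : F)) (by linear_combination h2)
    rwa [one_mul] at this
  have hw0 : w ≠ 0 := fun h => by simp [h] at hw
  -- pairs inside the hyperplane
  have pairs : ∀ {x y : Fin n → F} {μ : F}, μ ≠ 0 → x ∈ Submodule.span F ({a, b, c} : Set (Fin n → F)) →
      y ∈ Submodule.span F ({a, b, c} : Set (Fin n → F)) → Cfsg.hermForm n F 2 x x = 1 →
      Cfsg.hermForm n F 2 y y = 1 → Cfsg.hermForm n F 2 x y = 0 → x + μ • y ∈ centres 2 M := by
    intro x y μ hμ hx hy hxx hyy hxy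
    refine h3 _ (Submodule.add_mem _ hx (Submodule.smul_mem _ _ hy)) ?_
    simp only [H.add_left, H.add_right hF, H.smul_left, H.smul_right, hxx, hyy, hxy,
      (H.eq_zero_symm hF).1 hxy]
    linear_combination cube_eq_one hF hμ + h2
  have ma : a ∈ Submodule.span F ({a, b, c} : Set (Fin n → F)) := Submodule.subset_span (by simp)
  have mb : b ∈ Submodule.span F ({a, b, c} : Set (Fin n → F)) := Submodule.subset_span (by simp)
  have mc : c ∈ Submodule.span F ({a, b, c} : Set (Fin n → F)) := Submodule.subset_span (by simp)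
  -- pairs with `d`
  have mix : ∀ {x : Fin n → F}, x ∈ Submodule.span F ({a, b, c} : Set (Fin n → F)) →
      Cfsg.hermForm n F 2 x x = 1 → Cfsg.hermForm n F 2 a x = 0 → Cfsg.hermForm n F 2 d x = 0 →
      ∀ μ : F, μ ≠ 0 → x + μ • d ∈ centres 2 M := by
    intro x hx hxx hax hdx μ hμ
    have hu := pairs (μ := w / μ) (div_ne_zero hw0 hμ) ma hx ha hxx hax
    have hs := step hu h4
    rw [show Cfsg.hermForm n F 2 (a + w • d) (a + (w / μ) • x) = 1 by
      simp [H.add_left, H.add_right hF, H.smul_left, H.smul_right, ha, hax, hda, hdx]] at hs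
    have := centres_smul hF hs (μ / w)
    convert this using 1
    match_scalars <;> field_simp
    linear_combination -μ * h2
  have hBd := mix mb hb hab hdb
  have hCd := mix mc hc hac hdc
  have hAd : ∀ μ : F, μ ≠ 0 → a + μ • d ∈ centres 2 M := by
    intro μ hμ
    have hs := step (pairs (μ := 1) one_ne_zero mb ma hb ha hba) (hBd μ hμ)
    rw [show Cfsg.hermForm n F 2 (b + μ • d) (b + (1 : F) • a) = 1 by
      simp [H.add_left, H.add_right hF, H.smul_left, hb, hba, hdb, hda]] at hs
    convert hs using 1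
    match_scalars <;> simp
    linear_combination -h2
  -- moving weight four
  have swap : ∀ {x y : Fin n → F} {l t k : F}, (∀ μ : F, μ ≠ 0 → x + μ • d ∈ centres 2 M) →
      Cfsg.hermForm n F 2 x x = 1 → Cfsg.hermForm n F 2 d x = 0 →
      Cfsg.hermForm n F 2 y x = 0 → Cfsg.hermForm n F 2 y d = 0 → t ≠ 0 → k ≠ 0 →
      y + l • x + k • d ∈ centres 2 M → y + t • x + (l * k / t) • d ∈ centres 2 M := by
    intro x y l t k hxd hxx hdx hyx hyd ht hk hv
    set μ := (t / k) ^ 2 with hμ
    have hμ0 : μ ≠ 0 := pow_ne_zero _ (div_ne_zero ht hk)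
    have hs := step (hxd μ hμ0) hv
    rw [show Cfsg.hermForm n F 2 (y + l • x + k • d) (x + μ • d) = l + k * μ ^ 2 by
      simp [H.add_left, H.add_right hF, H.smul_left, H.smul_right, hxx, hd, hdx, hyx, hyd,
        (H.eq_zero_symm hF).1 hdx]] at hs
    have e1 : k * μ ^ 2 = t := by
      have := cube_eq_one hF (div_ne_zero ht hk)
      rw [hμ, show k * ((t / k) ^ 2) ^ 2 = k * (t / k) * (t / k) ^ 3 by ring, this, mul_one,
        mul_div_cancel₀ _ hk]
    have e2 : μ = k / t := by
      have h3' := cube_eq_one hF (div_ne_zero ht hk)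
      rw [hμ, eq_div_iff ht]
      rw [div_pow, div_eq_iff (pow_ne_zero _ hk)] at h3'
      field_simp
      linear_combination h3'
    rw [e1, e2] at hs
    convert hs using 1
    match_scalars <;> field_simp
    · linear_combination -l * h2
    · linear_combination -t * h2
  intro l₀ l₁ l₂ l₃ hiso
  have nrm : ∀ l : F, l ≠ 0 → l * l ^ 2 = 1 := fun l hl => by rw [← cube_eq_one hF hl]; ring
  have hiso' : l₀ * l₀ ^ 2 + l₁ * l₁ ^ 2 + l₂ * l₂ ^ 2 + l₃ * l₃ ^ 2 = 0 := by
    simp only [H.add_left, H.add_right hF, H.smul_left, H.smul_right, ha, hb, hc, hd, hab, hac, had,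
      hbc, hbd, hcd, hba, hca, hda, hcb, hdb, hdc] at hiso
    linear_combination hiso
  have sc : ∀ {x y : Fin n → F} {l m : F}, l ≠ 0 → x + (m / l) • y ∈ centres 2 M →
      l • x + m • y ∈ centres 2 M := fun {x y l m} hl h => by
    have := centres_smul hF h l
    rwa [smul_add, smul_smul, mul_div_cancel₀ _ hl] at this
  by_cases z0 : l₀ = 0 <;> by_cases z1 : l₁ = 0 <;> by_cases z2 : l₂ = 0 <;> by_cases z3 : l₃ = 0 <;>
    simp [z0, z1, z2, z3, nrm] at hiso' <;> try simp [z0, z1, z2, z3]
  all_goals first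
    | (refine sc (by assumption) ?_
       first
        | exact pairs (div_ne_zero (by assumption) (by assumption)) ma mb ha hb hab
        | exact pairs (div_ne_zero (by assumption) (by assumption)) ma mc ha hc hac
        | exact pairs (div_ne_zero (by assumption) (by assumption)) mb mc hb hc hbc
        | exact hAd _ (div_ne_zero (by assumption) (by assumption))
        | exact hBd _ (div_ne_zero (by assumption) (by assumption))
        | exact hCd _ (div_ne_zero (by assumption) (by assumption)))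
    | (exfalso; exact one_ne_zero (show (1 : F) = 0 by linear_combination hiso' - h2))
    | (have := centres_smul hF h4 0; simpa using this)
    | skip
  -- weight four
  set γ := l₀ * l₁ * l₂ * l₃ / w with hγ
  have hγ0 : γ ≠ 0 := div_ne_zero (mul_ne_zero (mul_ne_zero (mul_ne_zero z0 z1) z2) z3) hw0
  have hp := centres_smul hF h5 γ
  rw [show γ • (w ^ 2 • a + w • b + c + w • d) =
    ((γ * w) • b + γ • c) + (γ * w ^ 2) • a + (γ * w) • d by module] at hp
  have h6 := swap (t := l₀) hAd ha hda
    (by simp [H.add_left, H.smul_left, hba, hca]) (by simp [H.add_left, H.smul_left, hbd, hcd]) z0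
    (mul_ne_zero hγ0 hw0) hp
  generalize hk : γ * w ^ 2 * (γ * w) / l₀ = k at h6
  have hk0 : k ≠ 0 := hk ▸ div_ne_zero (mul_ne_zero (mul_ne_zero hγ0 (pow_ne_zero _ hw0)) (mul_ne_zero hγ0 hw0)) z0
  rw [show (γ * w) • b + γ • c + l₀ • a + k • d = (l₀ • a + γ • c) + (γ * w) • b + k • d by module] at h6
  have h7 := swap (t := l₁) hBd hb hdb
    (by simp [H.add_left, H.smul_left, hab, hcb]) (by simp [H.add_left, H.smul_left, had, hcd]) z1
    hk0 h6
  generalize hk' : γ * w * k / l₁ = k' at h7
  have hk0' : k' ≠ 0 := hk' ▸ div_ne_zero (mul_ne_zero (mul_ne_zero hγ0 hw0) hk0) z1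
  rw [show l₀ • a + γ • c + l₁ • b + k' • d = (l₀ • a + l₁ • b) + γ • c + k' • d by module] at h7
  have h8 := swap (t := l₂) hCd hc hdc
    (by simp [H.add_left, H.smul_left, hac, hbc]) (by simp [H.add_left, H.smul_left, had, hbd]) z2
    hk0' h7
  have hval : γ * k' / l₂ = l₃ := by
    rw [← hk', ← hk]
    have e1 : γ ^ 3 = 1 := cube_eq_one hF hγ0
    have e2 : w ^ 3 = 1 := cube_eq_one hF hw0
    have e3 : γ * w = l₀ * l₁ * l₂ * l₃ := div_mul_cancel₀ _ hw0
    field_simp
    linear_combination (γ * w ^ 4) * e1 + (γ * w) * e2 + e3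
  rwa [hval] at h8

end FourElements

theorem psu_two_gen_two (hF : Fintype.card F = 2 ^ 2) (hn : 4 ≤ n) :
    ∃ a b : Cfsg.PSU n F 2, Subgroup.closure ({a, b} : Set (Cfsg.PSU n F 2)) = ⊤ := by
  have H := hermForm_isHerm hF n
  have h2 := two_eq_zero hF
  obtain ⟨w, hw⟩ := exists_omega hF
  have hw0 : w ≠ 0 := fun h => by simp [h] at hw
  have hw3 : w ^ 3 = 1 := cube_eq_one hF hw0
  have hw1 : 1 + w ≠ 0 := fun h => hw0 (pow_eq_zero_iff two_ne_zero |>.1 (by linear_combination hw - h))
  have o := single_orthonormal hF n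
  have ne : ∀ i j : Fin 4, i ≠ j → Fin.castLE hn i ≠ Fin.castLE hn j := fun i j h e =>
    h (Fin.castLE_injective hn e)
  set a : Fin n → F := Pi.single (Fin.castLE hn 0) 1
  set b : Fin n → F := Pi.single (Fin.castLE hn 1) 1
  set c : Fin n → F := Pi.single (Fin.castLE hn 2) 1
  have ha : Cfsg.hermForm n F 2 a a = 1 := o.1 _
  have hb : Cfsg.hermForm n F 2 b b = 1 := o.1 _
  have hc : Cfsg.hermForm n F 2 c c = 1 := o.1 _
  have hab : Cfsg.hermForm n F 2 a b = 0 := o.2 (ne 0 1 (by decide))
  have hac : Cfsg.hermForm n F 2 a c = 0 := o.2 (ne 0 2 (by decide))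
  have hbc : Cfsg.hermForm n F 2 b c = 0 := o.2 (ne 1 2 (by decide))
  have hba := (H.eq_zero_symm hF).1 hab
  have hca := (H.eq_zero_symm hF).1 hac
  have hcb := (H.eq_zero_symm hF).1 hbc
  let u : ℕ → (Fin n → F) := fun i => if i = 0 then a + b else if i = 1 then a + w • b else b + c
  have u0 : u 0 = a + b := rfl
  have u1 : u 1 = a + w • b := rfl
  have u2 : u 2 = b + c := rfl
  have h00 : Cfsg.hermForm n F 2 (a + b) (a + b) = 0 := by
    simp only [H.add_left, H.add_right hF, ha, hb, hab, hba]; linear_combination h2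
  have h11 : Cfsg.hermForm n F 2 (a + w • b) (a + w • b) = 0 := by
    simp only [H.add_left, H.add_right hF, H.smul_left, H.smul_right, ha, hb, hab, hba]
    linear_combination hw3 + h2
  have h22 : Cfsg.hermForm n F 2 (b + c) (b + c) = 0 := by
    simp only [H.add_left, H.add_right hF, hb, hc, hbc, hcb]; linear_combination h2
  have h01 : Cfsg.hermForm n F 2 (a + b) (a + w • b) = w := by
    simp only [H.add_left, H.add_right hF, H.smul_right, ha, hb, hab, hba]; linear_combination hw - w * h2
  have h12 : Cfsg.hermForm n F 2 (a + w • b) (b + c) = w := by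
    simp [H.add_left, H.add_right hF, H.smul_left, hb, hab, hac, hbc]
  have h01' : Cfsg.hermForm n F 2 (a + b) (a + w • b) ≠ 0 := by rw [h01]; exact hw0
  obtain ⟨b2, hb2, hb2s⟩ := exists_pair_basis hF h00 h11 h01'
  have span2 : ∀ (v : ℕ → (Fin n → F)), v 0 = a + b → v 1 = a + w • b →
      Submodule.span F (Set.range b2) = spn v 2 := by
    intro v v0 v1
    rw [hb2s, spn]
    congr 1
    ext z
    constructor
    · rintro (rfl | rfl)
      · exact ⟨0, v0⟩
      · exact ⟨1, v1⟩
    · rintro ⟨i, rfl⟩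
      fin_cases i
      · exact Or.inl v0
      · exact Or.inr v1
  have bmem : b ∈ Submodule.span F ({a + b, a + w • b} : Set (Fin n → F)) := by
    rw [Submodule.mem_span_pair]
    refine ⟨(1 + w)⁻¹, (1 + w)⁻¹, ?_⟩
    match_scalars
    · linear_combination (1 + w)⁻¹ * h2
    · field_simp
  have amem : a ∈ Submodule.span F ({a + b, a + w • b} : Set (Fin n → F)) := by
    have := Submodule.sub_mem _ (Submodule.subset_span (s := ({a + b, a + w • b} : Set (Fin n → F))) (Set.mem_insert _ _)) bmem
    rwa [add_sub_cancel_right] at this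
  have cperp : ∀ z ∈ spn u 2, Cfsg.hermForm n F 2 c z = 0 := by
    intro z hz
    rw [← span2 u u0 u1, hb2s, Submodule.mem_span_pair] at hz
    obtain ⟨α, β, rfl⟩ := hz
    simp [H.add_right hF, H.smul_right, hca, hcb]
  obtain ⟨e3, hb3, hb3s, he3⟩ := exists_basis_succ hF (u := u) hb2 (span2 u u0 u1) (w := b) (x := c)
    (span2 u u0 u1 ▸ hb2s ▸ bmem) u2 cperp (by rw [hc]; exact one_ne_zero)
  have hch : Chain 2 3 u := by
    refine ⟨fun i hi => ?_, fun i j hi hj => ?_, fun k hk2 hk => ?_⟩
    · interval_cases i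
      · exact h00
      · exact h11
      · exact h22
    · have e : (i = 0 ∨ i = 1) ∧ (j = 0 ∨ j = 1) := by omega
      rcases e with ⟨rfl | rfl, rfl | rfl⟩ <;> simp only [u0, u1, u2]
      · rw [h11, h00]
      · rw [h12, h01]
      · rw [H.conj_symm (a + w • b) (b + c), h12, H.conj_symm (a + b), h01]
      · rw [h22, h11]
    · obtain rfl | rfl : k = 2 ∨ k = 3 := by omega
      · exact ⟨b2, hb2, span2 u u0 u1⟩
      · exact ⟨_, hb3, hb3s⟩
  obtain ⟨v, hv, hv'⟩ := hch.extend hF le_rfl n (by omega) le_rfl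
  obtain ⟨B, hB, hBv⟩ := hv.exists_shift hF (by omega)
  have v0 : v 0 = a + b := (hv' 0 (by omega)).trans u0
  have v1 : v 1 = a + w • b := (hv' 1 (by omega)).trans u1
  have v2 : v 2 = b + c := (hv' 2 (by omega)).trans u2
  have s3 : spn v 3 = spn u 3 := spn_congr hv'
  have hb3s' := hb3s.trans s3.symm
  -- the fourth frame vector
  obtain ⟨d, hb4, hb4s, -⟩ := exists_basis_succ hF hb3 hb3s' (hb3s' ▸ wPart_mem (v 3))
    (wPart_add_pPart (v 3)).symm (perp_spn hF hb3 hb3s' (v 3)) (hv.norm_ne hF (by omega) (by omega) hb3 hb3s')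
  set f3 := (Fin.snoc b2 e3 : Fin 3 → (Fin n → F)) with hf3
  set f4 := (Fin.snoc f3 d : Fin 4 → (Fin n → F)) with hf4
  have m3 : ({a, b, c} : Set (Fin n → F)) ⊆ spn v 3 := by
    have ma : a ∈ spn v 3 := spn_mono v (by omega : 2 ≤ 3) (span2 v v0 v1 ▸ hb2s ▸ amem)
    have mb : b ∈ spn v 3 := spn_mono v (by omega : 2 ≤ 3) (span2 v v0 v1 ▸ hb2s ▸ bmem)
    have mc : c ∈ spn v 3 := by
      rw [show c = v 2 - b by rw [v2, add_sub_cancel_left]]
      exact Submodule.sub_mem _ (mem_spn v (by omega)) mb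
    intro z hz
    rcases hz with rfl | rfl | rfl
    · exact ma
    · exact mb
    · exact mc
  have dperp : ∀ z ∈ spn v 3, Cfsg.hermForm n F 2 d z = 0 := by
    intro z hz
    have hl : ∀ i : Fin 3, Cfsg.hermForm n F 2 d (f3 i) = 0 := fun i => by
      have := hb4.2 (show (Fin.last 3) ≠ Fin.castSucc i from (Fin.castSucc_lt_last i).ne')
      simpa only [hf4, Fin.snoc_castSucc, Fin.snoc_last] using this
    exact (H.eq_zero_symm hF).1 (perp_span hF hl (hb3s'.symm ▸ hz))
  have hd : Cfsg.hermForm n F 2 d d = 1 := by simpa only [hf4, Fin.snoc_last] using hb4.1 (Fin.last 3)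
  have hda := dperp a (m3 (by simp))
  have hdb := dperp b (m3 (by simp))
  have hdc := dperp c (m3 (by simp))
  have had := (H.eq_zero_symm hF).1 hda
  have hbd := (H.eq_zero_symm hF).1 hdb
  have hcd := (H.eq_zero_symm hF).1 hdc
  -- the element of order three
  set x := a + b + c with hxdef
  set y := a + b + d with hydef
  have hx : Cfsg.hermForm n F 2 x x = 1 := by
    simp only [hxdef, H.add_left, H.add_right hF, ha, hb, hc, hab, hac, hbc, hba, hca, hcb]; linear_combination h2
  have hy : Cfsg.hermForm n F 2 y y = 1 := by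
    simp only [hydef, H.add_left, H.add_right hF, ha, hb, hd, hab, had, hbd, hba, hda, hdb]; linear_combination h2
  have hyx : Cfsg.hermForm n F 2 y x = 0 := by
    simp only [hxdef, hydef, H.add_left, H.add_right hF, ha, hb, hab, hac, hbc, hba, hda, hdb, hdc]; linear_combination h2
  have hux : Cfsg.hermForm n F 2 (a + b) x = 0 := by
    simp only [hxdef, H.add_left, H.add_right hF, ha, hb, hab, hac, hbc, hba]; linear_combination h2
  have huy : Cfsg.hermForm n F 2 (a + b) y = 0 := by
    simp only [hydef, H.add_left, H.add_right hF, ha, hb, hab, had, hbd, hba]; linear_combination h2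
  have hwn : w ^ (2 + 1) = 1 := hw3
  have hwn' : (w ^ 2) ^ (2 + 1) = 1 := by rw [← pow_mul, mul_comm, pow_mul, hwn, one_pow]
  set h := glRefl 2 x w * glRefl 2 y (w ^ 2) with hh
  have happ : ∀ z, (h : Matrix (Fin n) (Fin n) F) *ᵥ z = z + ((w ^ 2 - 1) * Cfsg.hermForm n F 2 z y) • y +
      ((w - 1) * Cfsg.hermForm n F 2 z x) • x := fun z => by
    rw [hh, Units.val_mul, ← Matrix.mulVec_mulVec, glRefl_apply hF hy hwn', glRefl_apply hF hx hwn,
      H.add_left, H.smul_left, hyx, mul_zero, add_zero]
  have hsu : h ∈ suGL n F 2 := by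
    refine ⟨mul_mem (glRefl_mem hF hx hwn) (glRefl_mem hF hy hwn'), MonoidHom.mem_ker.2 (Units.ext ?_)⟩
    show (_ * _ : Matrix (Fin n) (Fin n) F).det = 1
    rw [Matrix.det_mul]
    refine (congrArg₂ (· * ·) (glRefl_det hF hx hwn) (glRefl_det hF hy hwn')).trans ?_
    rw [← pow_succ', hwn]
  have hh3 : h ^ 3 = 1 := by
    have hxy : Cfsg.hermForm n F 2 x y = 0 := (H.eq_zero_symm hF).1 hyx
    refine Units.ext (Matrix.ext_iff_mulVec.2 fun z => ?_)
    rw [pow_succ, pow_succ, pow_one, Units.val_mul, Units.val_mul, ← Matrix.mulVec_mulVec,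
      ← Matrix.mulVec_mulVec, happ z, happ, happ]
    simp only [H.add_left, H.smul_left, hx, hy, hxy, hyx, Units.val_one, Matrix.one_mulVec, mul_zero,
      add_zero, mul_one]
    match_scalars
    all_goals first
      | ring1
      | linear_combination (Cfsg.hermForm n F 2 z x + Cfsg.hermForm n F 2 z y * (w ^ 3 + 1)) * hw3
      | linear_combination Cfsg.hermForm n F 2 z x * hw3
      | linear_combination (Cfsg.hermForm n F 2 z y * (w ^ 3 + 1)) * hw3
  have hhu : (h : Matrix (Fin n) (Fin n) F) *ᵥ (a + b) = a + b := by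
    rw [happ, hux, huy]; simp
  set T := glTransvection hF (a + b) h00 1 (by linear_combination h2) with hT
  have hTh : Commute h T := by
    refine Units.ext ?_
    have e := transvection_conj (⟨h, hsu.1⟩ : Cfsg.GU n F 2) (a + b) 1
    simp only at e
    rw [hhu] at e
    simpa [hT, glTransvection_val] using e
  have hT2 : T ^ 2 = 1 := by
    refine Units.ext ?_
    rw [sq, Units.val_mul, hT, glTransvection_val, transvection_mul _ h00, one_add_one_eq_two, h2,
      transvection_zero, Units.val_one]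
  set g := h * T with hg
  set M := Subgroup.closure ({g, B} : Set (Matrix.GeneralLinearGroup (Fin n) F)) with hM
  have hgM : g ∈ M := Subgroup.subset_closure (by simp)
  have hBM : B ∈ M := Subgroup.subset_closure (by simp)
  have hTM : T ∈ M := by
    have := pow_mem hgM 3
    rwa [hg, hTh.mul_pow, hh3, one_mul, pow_succ, hT2, one_mul] at this
  have hhM : h ∈ M := by
    have := mul_mem hgM (inv_mem hTM)
    rwa [hg, mul_inv_cancel_right] at this
  have hcen : a + b ∈ centres 2 M := by
    refine ⟨h00, fun t s hs ht => ?_⟩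
    rcases mul_eq_zero.1 (show s * (1 + s) = 0 by linear_combination hs) with h0 | h1
    · rw [h0, transvection_zero] at ht
      rw [show t = 1 from Units.ext ht]
      exact one_mem M
    · have hs1 : s = 1 := by linear_combination h1 - h2
      rw [hs1] at ht
      rwa [show t = T from Units.ext (ht.trans (glTransvection_val _ _ _ _ _).symm)]
  have hcs := hv.centres hBM hB hBv (v0.symm ▸ hcen)
  have hf2 : Full 2 M b2 := full_pair hF hcen (v1 ▸ hcs 1 (by omega)) h01' hb2s
  have hne2 := hv.norm_ne hF le_rfl (show 2 < n by omega) hb2 (span2 v v0 v1)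
  obtain ⟨e', he', he's, he'm⟩ := exists_basis_succ hF hb2 (span2 v v0 v1) (span2 v v0 v1 ▸ wPart_mem (v 2))
    (wPart_add_pPart (v 2)).symm (perp_spn hF hb2 (span2 v v0 v1) (v 2)) hne2
  have hf3' := full_snoc hF le_rfl (Or.inr (Or.inr le_rfl)) hb2 hf2 (hcs 2 (by omega)) hne2 he'm
  have hC3 : ∀ z ∈ spn v 3, Cfsg.hermForm n F 2 z z = 0 → z ∈ centres 2 M := fun z hz hz0 =>
    hf3' z (he's.symm ▸ hz) hz0
  have hle : Submodule.span F ({a, b, c} : Set (Fin n → F)) ≤ spn v 3 := Submodule.span_le.2 m3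
  have mA : a ∈ spn v 3 := m3 (by simp)
  have mC : c ∈ spn v 3 := m3 (by simp)
  have h4 : a + w • d ∈ centres 2 M := by
    have hz : a + w • c ∈ centres 2 M := hC3 _ (Submodule.add_mem _ mA (Submodule.smul_mem _ _ mC)) (by
      simp only [H.add_left, H.add_right hF, H.smul_left, H.smul_right, ha, hc, hac, hca]
      linear_combination hw3 + h2)
    have := centres_conj hhM hsu hz
    rw [happ] at this
    convert this using 1
    simp only [hxdef, hydef, H.add_left, H.add_right hF, H.smul_left, ha, hc, hab, hac, had, hca, hcb, hcd]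
    match_scalars
    · linear_combination (1 - w ^ 2) * h2
    · linear_combination -hw + (w + 1) * h2
    · linear_combination -hw + h2
    · linear_combination (1 - w ^ 2) * h2
  have h5 : w ^ 2 • a + w • b + c + w • d ∈ centres 2 M := by
    have hz : a + c ∈ centres 2 M := hC3 _ (Submodule.add_mem _ mA mC) (by
      simp only [H.add_left, H.add_right hF, ha, hc, hac, hca]; linear_combination h2)
    have := centres_conj hhM hsu hz
    rw [happ] at this
    convert this using 1
    simp only [hxdef, hydef, H.add_left, H.add_right hF, ha, hc, hab, hac, had, hca, hcb, hcd]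
    match_scalars
    · linear_combination (1 - w) * h2
    · linear_combination -hw + (2 + w - w) * h2
    · linear_combination (1 - w) * h2
    · linear_combination -hw + (w + 1) * h2
  have hfull4 : Full 2 M f4 := by
    intro z hz hz0
    have e : spn v 4 ≤ Submodule.span F ({a, b, c, d} : Set (Fin n → F)) := by
      rw [← hb4s, Submodule.span_le]
      rintro _ ⟨i, rfl⟩
      induction i using Fin.lastCases with
      | last => rw [hf4, Fin.snoc_last]; exact Submodule.subset_span (by simp)
      | cast i =>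
        simp only [hf4, Fin.snoc_castSucc, hf3]
        have hmem : (Fin.snoc b2 e3 : Fin 3 → (Fin n → F)) i ∈ spn u 3 := hb3s ▸ Submodule.subset_span ⟨i, rfl⟩
        refine (show spn u 3 ≤ Submodule.span F ({a, b, c, d} : Set (Fin n → F)) from ?_) hmem
        rw [Submodule.span_le]
        rintro _ ⟨j, rfl⟩
        have ka : a ∈ Submodule.span F ({a, b, c, d} : Set (Fin n → F)) := Submodule.subset_span (by simp)
        have kb : b ∈ Submodule.span F ({a, b, c, d} : Set (Fin n → F)) := Submodule.subset_span (by simp)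
        have kc : c ∈ Submodule.span F ({a, b, c, d} : Set (Fin n → F)) := Submodule.subset_span (by simp)
        fin_cases j
        · exact Submodule.add_mem _ ka kb
        · exact Submodule.add_mem _ ka (Submodule.smul_mem _ _ kb)
        · exact Submodule.add_mem _ kb kc
    have hz' := e (hb4s ▸ hz)
    rw [Submodule.mem_span_insert] at hz'
    obtain ⟨l₀, z', hz', rfl⟩ := hz'
    rw [Submodule.mem_span_insert] at hz'
    obtain ⟨l₁, z'', hz'', rfl⟩ := hz'
    obtain ⟨l₂, l₃, rfl⟩ := Submodule.mem_span_pair.1 hz''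
    simp only [← add_assoc] at hz0 ⊢
    exact full_four_two hF ha hb hc hd hab hac had hbc hbd hcd hw
      (fun z hz => hC3 z (hle hz)) h4 h5 l₀ l₁ l₂ l₃ hz0
  obtain ⟨bn, hbn, -, hbnf⟩ := hv.full hF hcs (by omega) (Or.inl le_rfl) hb4 hb4s hfull4 n hn le_rfl
  exact psu_two_gen_of_full hF (Or.inl hn) (mul_mem hsu (suToGU_mem_suGL _)) hB hbn hbnf

end Cfsg.Agent.UnitaryTwoGen
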